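import Cfsg.Agent.Lib.TriplePrime63.Chars
import Cfsg.Agent.Lib.BenderConsumers23.Simple
import Cfsg.Agent.Lib.Linear.Order

/-!
# The strongly embedded case: `PSL(2, 2^m)` with `p = 2^m + 1`
-/

set_option autoImplicit false
set_option linter.unusedSectionVars false
set_option linter.style.haveILetI false

namespace Cfsg.Agent.Lib.TriplePrime63

open MulAction Cfsg.Agent.Lib.Classif Cfsg.Agent.Lib.Characters Cfsg.Agent.Lib.Characters.Basic
open Cfsg.Agent.Lib.Characters.Transitive
open Cfsg.Agent.Lib.Classif.PrimeExceptional (deg apply_one_eq two_le_deg deg_oneChar)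
open Cfsg.Agent.Lib.BenderSuzuki Cfsg.Agent.Lib.RankOne.Basic

universe u

variable {G : Type u} [Group G] [Finite G] {p : ℕ} {P : Sylow p G}

theorem sz_arith {q p d : ℤ} (hq : 2 ≤ q) (hne : q ≠ 3)
    (h : (q ^ 2 + 1) * (q - 1) ^ 2 = p * d * (q ^ 2 - 1)) : False := by
  have h' : (q ^ 2 + 1) * (q - 1) = p * d * (q + 1) :=
    mul_right_cancel₀ (b := q - 1) (by omega) (by linear_combination h)
  have h4 : (q + 1) ∣ 4 := ⟨q ^ 2 - 2 * q + 3 - p * d, by linear_combination -h'⟩
  have := Int.le_of_dvd (by norm_num) h4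
  have hq' : q ≤ 3 := by omega
  interval_cases q
  · norm_num at h4
  · exact hne rfl

theorem psu_arith {q p d : ℤ} (hq : 2 ≤ q)
    (h : (q ^ 3 + 1) * (q - 1) ^ 2 = p * d * (q ^ 3 - 1)) : False := by
  have h' : (q ^ 3 + 1) * (q - 1) = p * d * (q ^ 2 + q + 1) :=
    mul_right_cancel₀ (b := q - 1) (by omega) (by linear_combination h)
  have h4 : (q ^ 2 + q + 1) ∣ 2 * (q - 1) := ⟨p * d - (q - 1) ^ 2, by linear_combination h'⟩
  have := Int.le_of_dvd (by omega) h4
  nlinarith

/-- A strongly embedded subgroup of order prime to `p`. -/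
theorem Hyp.pslTwo_of_stronglyEmbedded (h : Hyp p P) (hP1 : BenderConsumers23.PropPartOne.{u})
    (hMain : BenderSuzuki.PropMain.{u, u}) {M : Subgroup G} (hM : Cfsg.IsStronglyEmbedded M)
    (hpM : ¬ p ∣ Nat.card M) :
    M.index = p ∧ ∃ (F : Type) (_ : Field F) (_ : Fintype F) (m : ℕ), Fintype.card F = 2 ^ m ∧
      p = 2 ^ m + 1 ∧ Nonempty (G ≃* Matrix.ProjectiveSpecialLinearGroup (Fin 2) F) := by
  classical
  haveI := h.fact
  haveI := h.simple
  haveI := Fintype.ofFinite G
  haveI := Fintype.ofFinite (G ⧸ M)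
  haveI := Fintype.ofFinite (Cfsg.IrrCharacter G)
  obtain ⟨t₀, Q, hh, hg⟩ := BenderConsumers23.good hP1 hMain hM
    (BenderConsumers23.twoRank_of_simple (BenderConsumers23.na_of_not_comm h.nonabelian) hM)
    (BenderConsumers23.normalCore_eq_bot hM)
  have hS := hh.setup
  set o : G ⧸ M := ((1 : G) : G ⧸ M) with ho
  have hst : stabilizer G o = M := MulAction.stabilizer_quotient M
  have hcardΩ : Nat.card (G ⧸ M) = Nat.card Q + 1 := card_omega hS
  have hdvd : p ∣ Fintype.card (G ⧸ M) := by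
    rw [← Nat.card_eq_fintype_card, ← Subgroup.index_eq_card]
    have := h.dvd_card
    rw [← Subgroup.card_mul_index M] at this
    exact (h.prime.dvd_mul.1 this).resolve_left hpM
  -- an involution of `M` and its fixed point
  obtain ⟨t, ht⟩ := exists_prime_orderOf_dvd_card' (G := M) 2 (even_iff_two_dvd.1 hM.2.1)
  have ht2 : orderOf (t : G) = 2 := by rw [Subgroup.orderOf_coe, ht]
  have hfix : Nat.card {c : G ⧸ M // (t : G) • c = c} = 1 :=
    (Involutions.StronglyEmbedded.isStronglyEmbedded_iff_fixed hM.1 hM.2.1).1 hM t t.2 ht2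
  set c := Nat.card (Subgroup.centralizer ({(t : G)} : Set G)) with hc
  set i := Nat.card (invs G o) with hi
  have hci : Nat.card M = c * i := by
    have h1 := FixedSylow.card_fixed_mul (G := G) o (t : G)
    rw [hfix, one_mul] at h1
    have e : Nat.card {u : G // u ∈ stabilizer G o ∧ IsConj (t : G) u} = i := by
      refine Nat.card_congr (Equiv.subtypeEquivRight fun u => ?_)
      show _ ↔ u ∈ Cfsg.involutionsIn (stabilizer G o : Set G)
      constructor
      · rintro ⟨hu, hcj⟩
        obtain ⟨b, rfl⟩ := isConj_iff.1 hcj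
        have hb : orderOf (b * (t : G) * b⁻¹) = 2 := ((MulAut.conj b).orderOf_eq _).trans ht2
        exact ⟨hu, fun e => by rw [e, orderOf_one] at hb; omega,
          by rw [← pow_two, ← hb, pow_orderOf_eq_one]⟩
      · rintro ⟨hu, hu1, huu⟩
        exact ⟨hu, h.isConj_involutions ht2 (orderOf_eq_prime (by rw [pow_two, huu]) hu1)⟩
    rw [e, hst] at h1
    rw [h1, hc]
  -- the character of degree `|Q|`
  haveI : IsPretransitive G (G ⧸ M) := inferInstance
  have h2t : IsMultiplyPretransitive G (G ⧸ M) 2 := hS.two_transitive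
  have hX : 2 ≤ Nat.card (G ⧸ M) := by
    rw [hcardΩ]; have := Nat.card_pos (α := Q); omega
  haveI : Nonempty (G ⧸ M) := ⟨o⟩
  set R : Cfsg.IrrCharacter G := ⟨_, (isIrrCharacter_iff (G := G) (G ⧸ M) hX).2 h2t⟩ with hR
  have hRg : ∀ g : G, (R : G → ℂ) g = permChar (G ⧸ M) g - 1 := fun g => rfl
  obtain ⟨F⟩ := h.exists_fam
  obtain ⟨k, hk, h1, -, -, hrel⟩ := F.perm (Ω := G ⧸ M) h hdvd
  have hone : ∀ ψ : Cfsg.IrrCharacter G, ψ ≠ oneChar G → ψ ≠ R → k ψ = 0 := by
    intro ψ hψ hψR
    have h3 := hk ψ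
    rw [show permChar (G ⧸ M) = (R : G → ℂ) + (oneChar G : G → ℂ) from funext fun g => by
        rw [Pi.add_apply, oneChar_apply, hRg, sub_add_cancel],
      Induced.Basic.classInner_add_left, classInner_irr_of_ne (Ne.symm hψR),
      classInner_irr_of_ne (Ne.symm hψ), add_zero] at h3
    exact_mod_cast h3.symm
  have hfam0 : ∀ θ' ∈ F.fam, k θ' = 0 := by
    intro θ' hθ'
    by_contra hne
    have hθR : θ' = R := by
      by_contra he
      exact hne (hone θ' (fun e => F.one_not_mem (e ▸ hθ')) he)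
    obtain ⟨θ'', hθ'', hne2⟩ := Finset.exists_mem_ne (s := F.fam)
      (by have := F.fam_card; have := h.gt_three; omega) θ'
    have e2 : k θ'' = 0 := hone θ'' (fun e => F.one_not_mem (e ▸ hθ'')) (hθR ▸ hne2)
    have r1 := hrel θ' hθ'
    have r2 := hrel θ'' hθ''
    rw [e2] at r2
    rcases F.ε_unit with e | e <;> rw [e] at r1 r2 <;> push_cast at r1 r2 <;> omega
  have hrel0 : 1 + F.ε * (k F.χ : ℤ) = 0 := by
    have := hrel F.θ F.θ_mem
    rw [hfam0 _ F.θ_mem] at this
    simpa using this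
  have hε : F.ε = -1 := by
    rcases F.ε_unit with e | e
    · rw [e] at hrel0; omega
    · exact e
  have hχR : F.χ = R := by
    by_contra he
    rw [hone F.χ F.χ_ne_one he] at hrel0
    simp at hrel0
  have hdeg : deg F.χ = (Nat.card Q : ℤ) := by
    have h3 := apply_one_eq F.χ
    rw [hχR, hRg] at h3
    have e : Nat.card (fixedBy (G ⧸ M) (1 : G)) = Nat.card Q + 1 := by
      rw [← hcardΩ]; exact Nat.card_congr (Equiv.subtypeUnivEquiv fun x => one_smul G x)
    simp only [permChar, e, Nat.cast_add, Nat.cast_one, add_sub_cancel_right] at h3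
    rw [hχR]
    exact_mod_cast h3.symm
  obtain ⟨a, ha, hform⟩ := F.formula h ht2
  have ha0 : a = 0 := by
    rw [hχR, hRg] at ha
    have e : Nat.card (fixedBy (G ⧸ M) (t : G)) = 1 := hfix
    simp only [permChar, e, Nat.cast_one, sub_self] at ha
    exact_mod_cast ha.symm
  rw [ha0, sub_zero, hdeg, hε, ← hc] at hform
  have hG : (Nat.card G : ℤ) = ((Nat.card Q : ℤ) + 1) * Nat.card M := by
    have := Subgroup.card_mul_index M
    rw [Subgroup.index_eq_card, hcardΩ] at this
    rw [← this]; push_cast; ring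
  set D := Nat.card (twoStab G o t₀) with hD
  have hMD : (Nat.card M : ℤ) = (Nat.card Q : ℤ) * D := by
    rw [← hst]; exact_mod_cast card_stab hS
  have hciz : (Nat.card M : ℤ) = (c : ℤ) * i := by exact_mod_cast hci
  have hQpos : (0 : ℤ) < Nat.card Q := by exact_mod_cast Nat.card_pos (α := Q)
  have hcpos : (0 : ℤ) < c := by exact_mod_cast (Nat.card_pos (α := Subgroup.centralizer ({(t : G)} : Set G)))
  have key : ((Nat.card Q : ℤ) + 1) * (i : ℤ) ^ 2 = p * D * ((Nat.card Q : ℤ) - 1) := by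
    have h3 : ((Nat.card Q : ℤ) + 1) * i * Nat.card Q = p * c * ((Nat.card Q : ℤ) - 1) := by
      refine mul_right_cancel₀ (b := (c : ℤ) * Nat.card Q) (by positivity) ?_
      rw [hG, hciz] at hform
      linear_combination hform
    refine mul_right_cancel₀ hQpos.ne' ?_
    linear_combination (i : ℤ) * h3 + (p : ℤ) * ((Nat.card Q : ℤ) - 1) * (hMD - hciz)
  obtain ⟨hpg, L, hn, -, hQL, -, hcase⟩ := hg
  have hL : L = ⊤ := (Subgroup.Normal.eq_bot_or_eq_top hn).resolve_left fun hb => by
    have := hS.even_card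
    have hQb : Q = ⊥ := le_bot_iff.1 (hQL.trans hb.le)
    rw [hQb, Subgroup.card_bot] at this
    exact Nat.not_even_one this
  subst hL
  have hi1 : 1 ≤ i := by
    rcases Nat.eq_zero_or_pos i with e | e
    · exfalso
      have := Nat.card_pos (α := M)
      rw [hci, e, mul_zero] at this
      omega
    · exact e
  have hq : qNum G o = i + 1 := rfl
  rcases hcase with ⟨hQ, -, E, iE, jE, hE, ⟨n, hn2, hqn⟩, ⟨e⟩⟩ | ⟨hQ, -, -⟩ | ⟨hQ, -, -, -⟩
  · have e' : G ≃* Matrix.ProjectiveSpecialLinearGroup (Fin 2) E :=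
      Subgroup.topEquiv.symm.trans e
    have hqe : Fintype.card E = 2 ^ n := hE.trans hqn
    have hev : Even (Fintype.card E) := by
      rw [hqe]; exact (Nat.even_pow).2 ⟨even_two, by omega⟩
    have hQE : (Nat.card Q : ℤ) = (Fintype.card E : ℤ) := by rw [hQ, hE]
    have hiE : (i : ℤ) = (Fintype.card E : ℤ) - 1 := by rw [hE, hq]; push_cast; ring
    have hord : (Nat.card G : ℤ) =
        (Fintype.card E : ℤ) * ((Fintype.card E : ℤ) - 1) * ((Fintype.card E : ℤ) + 1) := by
      rw [Nat.card_congr e'.toEquiv, Linear.card_PSL_two_of_even hev]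
      have : 1 ≤ Fintype.card E := Fintype.card_pos
      push_cast [Nat.cast_sub this]
      ring
    have hpos : (1 : ℤ) ≤ (Fintype.card E : ℤ) - 1 := by rw [← hiE]; exact_mod_cast hi1
    have hDE : (D : ℤ) = (Fintype.card E : ℤ) - 1 := by
      rw [hG, hMD, hQE] at hord
      refine mul_left_cancel₀ (a := ((Fintype.card E : ℤ) + 1) * Fintype.card E)
        (by positivity) ?_
      linear_combination hord
    rw [hiE, hDE, hQE] at key
    have hp' : (p : ℤ) = (Fintype.card E : ℤ) + 1 := by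
      refine mul_right_cancel₀ (b := ((Fintype.card E : ℤ) - 1) ^ 2) (pow_ne_zero 2 (by omega)) ?_
      linear_combination -key
    have hpn : p = Fintype.card E + 1 := by exact_mod_cast hp'
    refine ⟨?_, E, iE, jE, n, hqe, by rw [hpn, hqe], ⟨e'⟩⟩
    rw [Subgroup.index_eq_card, hcardΩ, hpn, hQ, hE]
  · exfalso
    have hev := hS.even_card
    rw [hQ, hq] at hev key
    refine sz_arith (q := (i : ℤ) + 1) (by omega) (fun h3 => ?_) (p := (p : ℤ)) (d := (D : ℤ)) ?_
    · have : i + 1 = 3 := by exact_mod_cast h3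
      rw [this] at hev
      exact absurd hev (by decide)
    · push_cast at key
      linear_combination key
  · exfalso
    rw [hQ, hq] at key
    refine psu_arith (q := (i : ℤ) + 1) (by omega) (p := (p : ℤ)) (d := (D : ℤ)) ?_
    push_cast at key
    linear_combination key

end Cfsg.Agent.Lib.TriplePrime63
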