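import Cfsg.Agent.Lib.TriplePrime63.Setup
import Cfsg.Agent.Lib.Classif.ClassSum
import Cfsg.Agent.Lib.Classif.PrimeDegrees
import Cfsg.Agent.Lib.Classif.FirstPowerKills
import Cfsg.Agent.Lib.Characters.Transitive

/-!
# The two degrees of the principal block and the class formula
-/

set_option autoImplicit false
set_option linter.unusedSectionVars false
set_option linter.style.haveILetI false

namespace Cfsg.Agent.Lib.TriplePrime63

open MulAction Cfsg.Agent.Lib.Classif Cfsg.Agent.Lib.Characters Cfsg.Agent.Lib.Characters.Basic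
open Cfsg.Agent.Lib.Induced.Basic Cfsg.Agent.Lib.Characters.Transitive
open Cfsg.Agent.Lib.Classif.PrimeExceptional (deg apply_one_eq two_le_deg deg_oneChar)
open scoped ComplexConjugate

universe u v

variable {G : Type u} [Group G] [Finite G] {p : ℕ} {P : Sylow p G}

/-- The principal block at `p`: one character `χ` of sign `ε` and the exceptional family. -/
structure Fam (p : ℕ) (P : Sylow p G) where
  χ : Cfsg.IrrCharacter G
  ε : ℤ
  θ : Cfsg.IrrCharacter G
  fam : Finset (Cfsg.IrrCharacter G)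
  ε_unit : ε = 1 ∨ ε = -1
  χ_ne_one : χ ≠ oneChar G
  χ_not_mem : χ ∉ fam
  one_not_mem : oneChar G ∉ fam
  θ_mem : θ ∈ fam
  fam_card : 2 * fam.card + 1 = p
  rel : ∀ θ' ∈ fam, ∀ g : G, ¬ p ∣ orderOf g →
    1 + (ε : ℂ) * (χ : G → ℂ) g = (ε : ℂ) * (θ' : G → ℂ) g
  fam_deg : ∀ θ' ∈ fam, deg θ' = deg χ + ε
  cong : (p : ℤ) ∣ deg χ - ε
  two_le : 2 ≤ deg χ ∧ 2 ≤ deg χ + ε
  other : ∀ ψ : Cfsg.IrrCharacter G, ψ ≠ oneChar G → ψ ≠ χ → ψ ∉ fam → (p : ℤ) ∣ deg ψ
  class_sum : ∀ u ∈ Subgroup.normalizer ((P : Subgroup G) : Set G), orderOf u = 2 →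
    ∃ a : ℤ, (χ : G → ℂ) u = a ∧
      (Nat.card G : ℤ) * (deg χ - a) ^ 2 =
        p * (Nat.card (Subgroup.centralizer ({u} : Set G)) : ℤ) ^ 2 * (deg χ * (deg χ + ε))
  class_zero : ∀ z : G, orderOf z = 2 →
    (∀ b : G, b * z * b⁻¹ ∉ Subgroup.normalizer ((P : Subgroup G) : Set G)) → False

theorem Hyp.exists_fam (h : Hyp p P) : Nonempty (Fam p P) := by
  classical
  haveI := h.fact
  haveI := h.simple
  haveI := Fintype.ofFinite G
  have hperf := SmallGroups.Sylow.commutator_eq_top h.nonabelian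
  have he : (Subgroup.centralizer ((P : Subgroup G) : Set G)).relIndex
      (Subgroup.normalizer ((P : Subgroup G) : Set G)) = 2 := by
    have h1 := SmallGroups.Sylow.card_centralizer_mul_relIndex (P : Subgroup G)
    rw [h.self, h.card, h.norm, mul_comm 2 p] at h1
    rw [h.self]
    exact Nat.eq_of_mul_eq_mul_left h.prime.pos h1
  obtain ⟨D⟩ := FirstPowerData.exists_data P h.card he
  obtain ⟨χ, hχ⟩ := Finset.card_eq_one.1 (show D.K.card = 1 by have := D.card_K; omega)
  have hmem : χ ∈ D.K := by rw [hχ]; exact Finset.mem_singleton_self χ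
  set ε := D.a χ with hεdef
  have hε : ε = 1 ∨ ε = -1 := D.a_unit χ hmem
  have hdeg : 1 + ε * deg χ = D.δ * deg D.θ := by
    have := D.degree_eq
    rwa [hχ, Finset.sum_singleton] at this
  have h2 := D.two_le hperf
  have h2χ := h2.1 χ hmem
  have hδ : D.δ = ε := by
    rcases hε with e | e <;> rcases D.δ_unit with e' | e' <;> rw [e, e'] <;> rw [e, e'] at hdeg <;>
      first
        | rfl
        | (exfalso; nlinarith [h2.2])
  have hθ : deg D.θ = deg χ + ε := by
    rw [hδ] at hdeg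
    rcases hε with e | e <;> rw [e] at hdeg ⊢ <;> linarith
  have hrel : ∀ θ' ∈ D.fam, ∀ g : G, ¬ p ∣ orderOf g →
      1 + (ε : ℂ) * (χ : G → ℂ) g = (ε : ℂ) * (θ' : G → ℂ) g := by
    intro θ' hθ' g hg
    have := D.rel g hg
    rw [hχ, Finset.sum_singleton, hδ] at this
    rw [this, D.fam_regular θ' hθ' g hg]
  have hχ1 : χ ≠ oneChar G := fun e => D.one_not_mem (e ▸ hmem)
  have hN : Nat.card (Subgroup.normalizer ((P : Subgroup G) : Set G)) = 2 * p := h.norm
  have hθ2 : 2 ≤ deg χ + ε := hθ ▸ h2.2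
  have hεsq : (ε : ℂ) * ε = 1 := by rcases hε with e | e <;> rw [e] <;> norm_num
  have hcore : ∀ z : G, orderOf z = 2 → ∀ a : ℤ, (χ : G → ℂ) z = a → ∀ X : ℂ,
      (Nat.card G : ℂ) * (1 + ∑ φ ∈ D.K, (D.a φ : ℂ) *
        ((φ : G → ℂ) z * (φ : G → ℂ) z / (deg φ : ℂ)) -
        (D.δ : ℂ) * ((D.θ : G → ℂ) z * (D.θ : G → ℂ) z / (deg D.θ : ℂ))) = X →
      (Nat.card G : ℂ) * ((deg χ : ℂ) - a) ^ 2 =
        X * ((deg χ : ℂ) * ((deg χ : ℂ) + ε)) := by
    intro z hz a ha X hX
    have hz' : ¬ p ∣ orderOf z := by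
      rw [hz]
      intro hd
      exact h.ne_two ((Nat.prime_dvd_prime_iff_eq h.prime Nat.prime_two).1 hd)
    have hr := hrel D.θ D.θ_mem z hz'
    rw [ha] at hr
    have hb : (D.θ : G → ℂ) z = (ε : ℂ) + a := by
      linear_combination -((ε : ℂ)) * hr + ((a : ℂ) - (D.θ : G → ℂ) z) * hεsq
    rw [hχ, Finset.sum_singleton, hδ, ha, hb, hθ, ← hεdef] at hX
    rw [← hX]
    have hc1 : (deg χ : ℂ) ≠ 0 := by
      have : deg χ ≠ 0 := by omega
      exact_mod_cast this
    have hc2 : (deg χ : ℂ) + ε ≠ 0 := by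
      have : deg χ + ε ≠ 0 := by omega
      exact_mod_cast this
    push_cast
    field_simp
    rcases hε with e | e <;> rw [e] <;> push_cast <;> ring
  refine ⟨⟨χ, ε, D.θ, D.fam, hε, hχ1, fun hh => Finset.disjoint_left.1 D.fam_disj hmem hh,
    D.fam_one, D.θ_mem, D.fam_card, hrel, fun θ' hθ' => by rw [D.fam_deg θ' hθ', hθ],
    D.deg_cong h.card hmem, ⟨h2χ, hθ2⟩, fun ψ h1 hψ hf => ?_, fun u hu hu2 => ?_,
    fun z hz hout => ?_⟩⟩
  · exact PrimeDegrees.dvd_deg_of_other h.card h.self D ψ h1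
      (by rw [hχ, Finset.mem_singleton]; exact hψ) hf
  · obtain ⟨a, ha, -, -⟩ := FirstPowerData.exists_int_mod_four hperf χ
      (show u * u = 1 by rw [← pow_two, ← hu2, pow_orderOf_eq_one])
    refine ⟨a, ha, ?_⟩
    have := hcore u hu2 a ha _ (ClassSum.class_sum P h.card h.ne_two h.self D hN hu hu2)
    exact_mod_cast this
  · have hz' : ¬ p ∣ orderOf z := by
      rw [hz]
      intro hd
      exact h.ne_two ((Nat.prime_dvd_prime_iff_eq h.prime Nat.prime_two).1 hd)
    obtain ⟨a, ha, -, -⟩ := FirstPowerData.exists_int_mod_four hperf χ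
      (show z * z = 1 by rw [← pow_two, ← hz, pow_orderOf_eq_one])
    have h0 := hcore z hz a ha _ (ClassSum.class_sum_zero P h.card h.self D hN hz'
      (by rw [← pow_two, ← hz, pow_orderOf_eq_one]) hout)
    rw [zero_mul, mul_eq_zero, or_iff_right (Nat.cast_ne_zero.mpr Nat.card_pos.ne'),
      pow_eq_zero_iff two_ne_zero, sub_eq_zero] at h0
    exact FirstPowerKills.apply_ne_deg h.nonabelian χ hχ1
      (g := z) (fun e => by rw [e, orderOf_one] at hz; omega) (by rw [ha, ← h0])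

/-- All involutions are conjugate. -/
theorem Hyp.isConj_involutions (h : Hyp p P) {u v : G} (hu : orderOf u = 2) (hv : orderOf v = 2) :
    IsConj u v := by
  obtain ⟨F⟩ := h.exists_fam
  have key : ∀ z : G, orderOf z = 2 → ∃ b : G,
      b * z * b⁻¹ ∈ Subgroup.normalizer ((P : Subgroup G) : Set G) := fun z hz => by
    by_contra hc
    push Not at hc
    exact F.class_zero z hz hc
  obtain ⟨b, hb⟩ := key u hu
  obtain ⟨c, hc⟩ := key v hv
  exact ((isConj_iff.2 ⟨b, rfl⟩).trans (h.isConj_norm hb (((MulAut.conj b).orderOf_eq u).trans hu) hc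
    (((MulAut.conj c).orderOf_eq v).trans hv))).trans (isConj_iff.2 ⟨c, rfl⟩).symm

/-- The class formula at any involution. -/
theorem Fam.formula (F : Fam p P) (h : Hyp p P) {t : G} (ht : orderOf t = 2) :
    ∃ a : ℤ, (F.χ : G → ℂ) t = a ∧
      (Nat.card G : ℤ) * (deg F.χ - a) ^ 2 =
        p * (Nat.card (Subgroup.centralizer ({t} : Set G)) : ℤ) ^ 2 *
          (deg F.χ * (deg F.χ + F.ε)) := by
  obtain ⟨u, hu, huN⟩ := h.exists_inverting
  obtain ⟨a, ha, hf⟩ := F.class_sum u huN hu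
  obtain ⟨b, rfl⟩ := isConj_iff.1 (h.isConj_involutions hu ht)
  refine ⟨a, ?_, ?_⟩
  · rw [isClassFunction_irr F.χ u b, ha]
  · have e1 := Complete.card_conjugates_mul_centralizer (G := G) u
    have e2 := Complete.card_conjugates_mul_centralizer (G := G) (b * u * b⁻¹)
    have e3 : Nat.card {x : G // IsConj (b * u * b⁻¹) x} = Nat.card {x : G // IsConj u x} :=
      Nat.card_congr (Equiv.subtypeEquivRight fun x =>
        ⟨fun hx => (isConj_iff.2 ⟨b, rfl⟩).trans hx, fun hx => (isConj_iff.2 ⟨b, rfl⟩).symm.trans hx⟩)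
    rw [e3, ← e1] at e2
    have hpos : 0 < Nat.card {x : G // IsConj u x} :=
      Nat.card_pos_iff.2 ⟨⟨⟨u, IsConj.refl u⟩⟩, inferInstance⟩
    rw [Nat.eq_of_mul_eq_mul_left hpos e2]
    exact hf

/-- All involutions fix equally many points. -/
theorem Hyp.fixed_all (h : Hyp p P) {Ω : Type v} [Fintype Ω] [MulAction G Ω] [IsPretransitive G Ω]
    {m : ℕ} (hm : Fintype.card Ω = m * p) (hmo : Odd m) {u : G} (h2 : orderOf u = 2) :
    Odd (Nat.card {a : Ω // u • a = a}) ∧ Nat.card {a : Ω // u • a = a} ≤ m := by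
  obtain ⟨w, hw, hwN⟩ := h.exists_inverting
  rw [FixedSylow.card_fixed_conj (α := Ω) (h.isConj_involutions h2 hw)]
  exact h.fixed_norm hm hmo hwN hw

section Perm

variable {Ω : Type v} [Fintype Ω] [MulAction G Ω] [IsPretransitive G Ω] [Fintype G]

/-- The constituents of a permutation character without fixed points of `p`-singular elements. -/
theorem Fam.perm (F : Fam p P) (h : Hyp p P) (hd : p ∣ Fintype.card Ω) [Nonempty Ω]
    [Fintype (Cfsg.IrrCharacter G)] :
    ∃ k : Cfsg.IrrCharacter G → ℕ,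
      (∀ ψ : Cfsg.IrrCharacter G,
        Cfsg.classInner (permChar Ω) (ψ : G → ℂ) = k ψ) ∧
      k (oneChar G) = 1 ∧
      (∀ g : G, permChar Ω g = ∑ ψ, (k ψ : ℂ) * (ψ : G → ℂ) g) ∧
      (Fintype.card Ω : ℤ) = ∑ ψ, (k ψ : ℤ) * deg ψ ∧
      ∀ θ' ∈ F.fam, 1 + F.ε * k F.χ - F.ε * k θ' = 0 := by
  classical
  obtain ⟨a⟩ := (inferInstance : Nonempty Ω)
  have hchar : Cfsg.IsCharacter G (permChar Ω : G → ℂ) := by
    show Cfsg.IsCharacter G (fun g => (Nat.card (fixedBy Ω g) : ℂ))
    rw [card_fixedBy_eq_indFun Ω a]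
    exact Cfsg.Agent.Lib.Induced.Character.isCharacter_indFun _ isCharacter_one
  choose k hk using fun ψ : Cfsg.IrrCharacter G => exists_classInner_nat hchar (isCharacter_irr ψ)
  have h1 : k (oneChar G) = 1 := by
    have := hk (oneChar G)
    rw [show Cfsg.classInner (permChar Ω) (oneChar G : G → ℂ) = 1 from classInner_permChar_one Ω]
      at this
    exact_mod_cast this.symm
  have hdec : ∀ g : G, permChar Ω g = ∑ ψ, (k ψ : ℂ) * (ψ : G → ℂ) g := fun g => by
    have := congrFun (Complete.classFunction_eq_sum (isClassFunction_of_isCharacter hchar)) g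
    rw [Finset.sum_apply] at this
    rw [this]
    exact Finset.sum_congr rfl fun ψ _ => by rw [Pi.smul_apply, smul_eq_mul, hk]
  refine ⟨k, hk, h1, hdec, ?_, fun θ' hθ' => ?_⟩
  · have := hdec 1
    simp only [apply_one_eq, permChar] at this
    have e : Nat.card (fixedBy Ω (1 : G)) = Fintype.card Ω := by
      rw [← Nat.card_eq_fintype_card]
      exact Nat.card_congr (Equiv.subtypeUnivEquiv fun x => one_smul G x)
    rw [e] at this
    exact_mod_cast this
  · -- the product of the two functions is identically zero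
    set f : G → ℂ := (oneChar G : G → ℂ) + (F.ε : ℂ) • (F.χ : G → ℂ) - (F.ε : ℂ) • (θ' : G → ℂ)
      with hf
    have h0 : Cfsg.classInner (permChar Ω) f = 0 := by
      rw [Cfsg.classInner, Finset.sum_eq_zero fun g _ => ?_, mul_zero]
      by_cases hg : p ∣ orderOf g
      · have : permChar Ω g = 0 := by
          haveI : IsEmpty (fixedBy Ω g) := ⟨fun x => h.free' hd hg x.1 x.2⟩
          simp only [permChar, Nat.card_of_isEmpty, Nat.cast_zero]
        rw [this, zero_mul]
      · have : f g = 0 := by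
          simp only [hf, Pi.add_apply, Pi.sub_apply, Pi.smul_apply, smul_eq_mul, oneChar_apply]
          rw [← F.rel θ' hθ' g hg, sub_self]
        rw [this, map_zero, mul_zero]
    rw [hf, classInner_sub_right, classInner_add_right, classInner_smul_right,
      classInner_smul_right, hk, hk, hk, h1, map_intCast, Nat.cast_one] at h0
    exact_mod_cast h0

end Perm

end Cfsg.Agent.Lib.TriplePrime63
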