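import Cfsg.Agent.Lib.TriplePrime63.Bender
import Cfsg.Agent.Lib.PGroups.MaximalClass
import Cfsg.Agent.Lib.GorensteinWalter.Interface
import Mathlib.GroupTheory.GroupAction.Primitive

/-!
# Commuting involutions with different fixed point sets
-/

set_option autoImplicit false
set_option linter.unusedSectionVars false
set_option linter.style.haveILetI false

namespace Cfsg.Agent.Lib.TriplePrime63

open MulAction Cfsg.Agent.Lib.Classif
open scoped Pointwise

universe u v

variable {G : Type u} [Group G] [Finite G] {p : ℕ} {P : Sylow p G}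
variable {Ω : Type v} [Fintype Ω] [MulAction G Ω] [IsPretransitive G Ω]

/-- `t` is central in the Sylow `2`-subgroup `S`; the involution `s` of `S` exchanges `β` and `γ`
among the three fixed points `α, β, γ` of `t`. -/
structure Cross (G : Type u) [Group G] (Ω : Type v) [MulAction G Ω] where
  S : Sylow 2 G
  t : G
  s : G
  α : Ω
  β : Ω
  γ : Ω
  t_mem : t ∈ (S : Subgroup G)
  s_mem : s ∈ (S : Subgroup G)
  ht : orderOf t = 2
  hs : orderOf s = 2
  central : ∀ k ∈ (S : Subgroup G), k * t = t * k
  αβ : α ≠ β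
  αγ : α ≠ γ
  βγ : β ≠ γ
  fix_t : fixedBy Ω t = {α, β, γ}
  sα : s • α = α
  sβ : s • β = γ

theorem sq_one_of_orderOf {x : G} (hx : orderOf x = 2) : x * x = 1 := by
  rw [← pow_two, ← hx, pow_orderOf_eq_one]

/-- An involution is central in a Sylow subgroup of any centraliser containing a given
commuting involution, all involutions being conjugate. -/
theorem exists_sylow_centralizing (h : Hyp p P) {t : G} (ht : orderOf t = 2) {X : Subgroup G}
    (hX : IsPGroup 2 X) (hXC : X ≤ Subgroup.centralizer ({t} : Set G)) :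
    ∃ S : Sylow 2 G, X ≤ (S : Subgroup G) ∧ t ∈ (S : Subgroup G) ∧
      ∀ k ∈ (S : Subgroup G), k * t = t * k := by
  haveI : Fact (Nat.Prime 2) := ⟨Nat.prime_two⟩
  set C := Subgroup.centralizer ({t} : Set G) with hC
  obtain ⟨T, hT⟩ := (hX.comap_of_injective C.subtype C.subtype_injective :
    IsPGroup 2 (X.comap C.subtype)).exists_le_sylow
  -- a Sylow subgroup of `G` centralising a conjugate of `t`
  obtain ⟨S₀⟩ := (inferInstance : Nonempty (Sylow 2 G))
  have h2 : 2 ∣ Nat.card G := ht ▸ orderOf_dvd_natCard t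
  have hS₀ : (S₀ : Subgroup G) ≠ ⊥ := fun e => by
    have := S₀.dvd_card_of_dvd_card h2
    rw [e, Subgroup.card_bot] at this
    omega
  haveI : Nontrivial (S₀ : Subgroup G) := (Subgroup.nontrivial_iff_ne_bot _).2 hS₀
  haveI := IsPGroup.center_nontrivial S₀.isPGroup'
  have hd2 : 2 ∣ Nat.card (Subgroup.center (S₀ : Subgroup G)) := by
    obtain ⟨n, hn⟩ := IsPGroup.iff_card.1
      (S₀.isPGroup'.to_subgroup (Subgroup.center (S₀ : Subgroup G)))
    rw [hn]
    refine dvd_pow_self 2 fun e => ?_
    have := Finite.one_lt_card (α := Subgroup.center (S₀ : Subgroup G))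
    rw [hn, e] at this
    omega
  obtain ⟨z, hz⟩ := exists_prime_orderOf_dvd_card'
    (G := Subgroup.center (S₀ : Subgroup G)) 2 hd2
  have hzo : orderOf ((z : (S₀ : Subgroup G)) : G) = 2 := by
    rw [Subgroup.orderOf_coe, Subgroup.orderOf_coe, hz]
  obtain ⟨b, hb⟩ := isConj_iff.1 (h.isConj_involutions hzo ht)
  have hS₁ : ((b • S₀ : Sylow 2 G) : Subgroup G) ≤ C := by
    intro y hy
    rw [Sylow.coe_subgroup_smul, Subgroup.mem_pointwise_smul_iff_inv_smul_mem] at hy
    rw [hC, Subgroup.mem_centralizer_singleton_iff]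
    have h1 := Subgroup.mem_center_iff.1 z.2 ⟨_, hy⟩
    have h2 := congrArg Subtype.val h1
    simp only [Subgroup.coe_mul, MulAut.smul_def, ← map_inv, MulAut.conj_apply, inv_inv] at h2
    rw [← hb]
    calc y * (b * ((z : (S₀ : Subgroup G)) : G) * b⁻¹)
        = b * ((b⁻¹ * y * b) * ((z : (S₀ : Subgroup G)) : G)) * b⁻¹ := by group
      _ = b * (((z : (S₀ : Subgroup G)) : G) * (b⁻¹ * y * b)) * b⁻¹ := by rw [h2]
      _ = _ := by group
  -- so the Sylow subgroups of the centraliser are Sylow in `G`
  have hcard : Nat.card ((T : Subgroup C).map C.subtype) = Nat.card (S₀ : Subgroup G) := by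
    rw [Subgroup.card_map_of_injective C.subtype_injective]
    refine le_antisymm ?_ ?_
    · obtain ⟨S', hS'⟩ := (T.isPGroup'.map C.subtype).exists_le_sylow
      have := Subgroup.card_le_of_le hS'
      rw [Subgroup.card_map_of_injective C.subtype_injective,
        Nat.card_congr (Sylow.equiv S' S₀).toEquiv] at this
      exact this
    · have h3 : IsPGroup 2 (((b • S₀ : Sylow 2 G) : Subgroup G).subgroupOf C) :=
        (b • S₀).isPGroup'.comap_of_injective C.subtype C.subtype_injective
      obtain ⟨T', hT'⟩ := h3.exists_le_sylow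
      have := Subgroup.card_le_of_le hT'
      rw [Nat.card_congr (Subgroup.subgroupOfEquivOfLe hS₁).toEquiv,
        Nat.card_congr (Sylow.equiv (b • S₀) S₀).toEquiv,
        Nat.card_congr (Sylow.equiv T' T).toEquiv] at this
      exact this
  set S : Sylow 2 G := Sylow.ofCard ((T : Subgroup C).map C.subtype)
    (by rw [hcard, S₀.card_eq_multiplicity]) with hS
  have hSc : (S : Subgroup G) = (T : Subgroup C).map C.subtype := rfl
  have hcomm : ∀ k ∈ (S : Subgroup G), k * t = t * k := by
    intro k hk
    rw [hSc] at hk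
    obtain ⟨⟨k', hk'⟩, -, rfl⟩ := hk
    exact Subgroup.mem_centralizer_singleton_iff.1 hk'
  refine ⟨S, fun x hx => ?_, ?_, hcomm⟩
  · rw [hSc]
    exact ⟨⟨x, hXC hx⟩, hT hx, rfl⟩
  · -- `t` is a `2`-element centralising `S`
    have hsup : IsPGroup 2 ((S : Subgroup G) ⊔ Subgroup.zpowers t : Subgroup G) := by
      refine S.isPGroup'.to_sup_of_normal_left' (IsPGroup.of_card (n := 1)
        (by rw [Nat.card_zpowers, ht, pow_one])) ?_
      rw [Subgroup.zpowers_le, Subgroup.mem_normalizer_iff]
      intro k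
      constructor
      · intro hk
        rw [← hcomm k hk, mul_inv_cancel_right]; exact hk
      · intro hk
        have h4 := hcomm _ hk
        have : t * k * t⁻¹ = k := by
          have h5 : t * k = t * (t * k * t⁻¹) := by
            rw [← h4, inv_mul_cancel_right]
          exact (mul_left_cancel h5).symm
        rwa [this] at hk
    have := S.3 hsup le_sup_left
    exact this ▸ Subgroup.mem_sup_right (Subgroup.mem_zpowers t)

/-- If commuting involutions fix the same points the action is imprimitive. -/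
theorem exists_cross (h : Hyp p P) (hP1 : BenderConsumers23.PropPartOne.{u})
    (hMain : BenderSuzuki.PropMain.{u, u}) (hΩ : Fintype.card Ω = 3 * p)
    [IsPreprimitive G Ω] [FaithfulSMul G Ω] : Nonempty (Cross G Ω) := by
  classical
  haveI : Fact (Nat.Prime 2) := ⟨Nat.prime_two⟩
  haveI := h.simple
  have hodd3 : Odd 3 := by decide
  have hfix := fun (u : G) (hu : orderOf u = 2) => h.fixed_all (Ω := Ω) hΩ hodd3 hu
  have hnc : ∀ u : G, orderOf u = 2 → (fixedBy Ω u).ncard = Nat.card {a : Ω // u • a = a} :=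
    fun u _ => (Nat.card_coe_set_eq _).symm
  by_cases hall : ∀ s t : G, orderOf s = 2 → orderOf t = 2 → Commute s t →
      fixedBy Ω s = fixedBy Ω t
  · exfalso
    obtain ⟨t, htN, -⟩ := h.exists_inverting
    set T := fixedBy Ω t with hT
    set M := stabilizer G T with hM
    obtain ⟨ho, hle⟩ := hfix t htN
    have hTcard : T.ncard ≤ 3 := by rw [hT, hnc t htN]; exact hle
    obtain ⟨a, ha⟩ : T.Nonempty := by
      rw [← Set.ncard_pos, hT, hnc t htN]
      exact ho.pos
    have htM : t ∈ M := by
      rw [hM, mem_stabilizer_iff, hT, smul_fixedBy, mul_inv_cancel_right]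
    have hpM : ¬ p ∣ Nat.card M := by
      intro hd
      haveI := h.fact
      obtain ⟨x, hx⟩ := exists_prime_orderOf_dvd_card' (G := M) p hd
      have hxo : orderOf (x : G) = p := by rw [Subgroup.orderOf_coe, hx]
      have hinj : Function.Injective (fun i : Fin p => (⟨(x : G) ^ (i : ℕ) • a, by
          have := (stabilizer G T).pow_mem x.2 (i : ℕ)
          rw [mem_stabilizer_iff] at this
          exact (Set.ext_iff.1 this _).1 (Set.smul_mem_smul_set ha)⟩ : T)) := by
        intro i j hij
        have h1 : (x : G) ^ (i : ℕ) • a = (x : G) ^ (j : ℕ) • a := congrArg Subtype.val hij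
        wlog hlt : (i : ℕ) ≤ j generalizing i j
        · exact (this hij.symm h1.symm (le_of_not_ge hlt)).symm
        by_contra hne
        have hne' : (i : ℕ) ≠ j := fun e => hne (Fin.ext e)
        have h2 : (x : G) ^ ((j : ℕ) - i) • a = a := by
          apply MulAction.injective ((x : G) ^ (i : ℕ))
          simp only [smul_smul, ← pow_add]
          rw [Nat.add_sub_cancel' hlt, h1]
        refine h.free' (Dvd.intro_left 3 hΩ.symm) ?_ a h2
        rw [orderOf_pow' _ (by omega), hxo]
        have hco : Nat.Coprime p ((j : ℕ) - i) := h.prime.coprime_iff_not_dvd.2 fun hd => by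
          have := Nat.le_of_dvd (by omega) hd
          have := j.2
          omega
        rw [hco.gcd_eq_one, Nat.div_one]
      have h3 := Nat.card_le_card_of_injective _ hinj
      rw [Nat.card_fin, Nat.card_coe_set_eq] at h3
      have := h.gt_three
      omega
    have hTu : T ≠ Set.univ := by
      intro e
      rw [e, Set.ncard_univ, Nat.card_eq_fintype_card, hΩ] at hTcard
      have := h.gt_three
      omega
    -- all involutions of `M` fix exactly `T`
    have hinv : ∀ u ∈ M, orderOf u = 2 → fixedBy Ω u = T := by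
      intro u hu hu2
      obtain ⟨S, -, htS, hSc⟩ := exists_sylow_centralizing h htN (X := ⊥) IsPGroup.of_bot bot_le
      have hSM : (S : Subgroup G) ≤ M := by
        intro k hk
        rw [hM, mem_stabilizer_iff, hT, smul_fixedBy]
        congr 1
        rw [hSc k hk, mul_inv_cancel_right]
      have hU : IsPGroup 2 (Subgroup.zpowers (⟨u, hu⟩ : M)) :=
        IsPGroup.of_card (n := 1) (by
          rw [Nat.card_zpowers, ← Subgroup.orderOf_coe, pow_one]; exact hu2)
      obtain ⟨U, hU'⟩ := hU.exists_le_sylow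
      obtain ⟨m, hm⟩ := MulAction.exists_smul_eq M U (S.subtype hSM)
      have hmem : (m : G) * u * (m : G)⁻¹ ∈ (S : Subgroup G) := by
        have h1 : m * ⟨u, hu⟩ * m⁻¹ ∈ ((S.subtype hSM : Sylow 2 M) : Subgroup M) := by
          rw [← hm, Sylow.coe_subgroup_smul]
          simpa using Subgroup.smul_mem_pointwise_smul (a := MulAut.conj m) _ _
            (hU' (Subgroup.mem_zpowers (⟨u, hu⟩ : M)))
        simpa [Sylow.coe_subtype, Subgroup.mem_subgroupOf] using h1
      have hu' : orderOf ((m : G) * u * (m : G)⁻¹) = 2 :=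
        ((MulAut.conj (m : G)).orderOf_eq u).trans hu2
      have h1 := hall _ t hu' htN (hSc _ hmem)
      rw [← smul_fixedBy] at h1
      have h2 : (m : G) • T = T := m.2
      exact smul_left_cancel (m : G) (h1.trans h2.symm)
    have hSE : Cfsg.IsStronglyEmbedded M := by
      refine Involutions.StronglyEmbedded.of_forall_conj (fun e => ?_) ?_ fun u hu hu2 g hg => ?_
      · apply hpM
        rw [e, Subgroup.card_top]
        exact h.dvd_card
      · rw [even_iff_two_dvd, ← htN, ← Subgroup.orderOf_mk t htM]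
        exact orderOf_dvd_natCard _
      · have h1 := hinv _ hg (((MulAut.conj g).orderOf_eq u).trans hu2)
        rw [← smul_fixedBy, hinv u hu hu2] at h1
        exact h1
    obtain ⟨hidx, -⟩ := h.pslTwo_of_stronglyEmbedded hP1 hMain hSE hpM
    -- the orbit of `T` partitions `Ω`
    set O := orbit G T with hO
    have hOcard : O.ncard = p := by rw [hO, ← index_stabilizer]; exact hidx
    haveI : Finite O := Set.toFinite O
    have hsize : ∀ B : O, (B : Set Ω).ncard = T.ncard := by
      rintro ⟨B, g, rfl⟩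
      exact Set.ncard_smul_set g T
    let f : (Σ B : O, (B : Set Ω)) → Ω := fun x => x.2.1
    have hf : Function.Surjective f := by
      intro b
      obtain ⟨g, hg⟩ := exists_smul_eq G a b
      exact ⟨⟨⟨g • T, g, rfl⟩, ⟨b, hg ▸ Set.smul_mem_smul_set ha⟩⟩, rfl⟩
    have hsig : Nat.card (Σ B : O, (B : Set Ω)) = p * T.ncard := by
      haveI := Fintype.ofFinite O
      rw [Nat.card_sigma, Finset.sum_congr rfl fun B _ => by rw [Nat.card_coe_set_eq, hsize B],
        Finset.sum_const, Finset.card_univ, smul_eq_mul, ← Nat.card_eq_fintype_card,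
        Nat.card_coe_set_eq, hOcard]
    have hle' := Nat.card_le_card_of_surjective f hf
    rw [hsig, Nat.card_eq_fintype_card, hΩ] at hle'
    have hT3 : T.ncard = 3 := by nlinarith [h.gt_three]
    have hbij : Function.Bijective f :=
      (Nat.bijective_iff_surjective_and_card f).2
        ⟨hf, by rw [hsig, hT3, Nat.card_eq_fintype_card, hΩ, mul_comm]⟩
    have hblock : IsBlock G T := by
      refine MulAction.isBlock_iff_smul_eq_of_nonempty.2 fun g ⟨b, hb, hb'⟩ => ?_
      have := @hbij.1 ⟨⟨g • T, g, rfl⟩, ⟨b, hb⟩⟩ ⟨⟨T, 1, one_smul G T⟩, ⟨b, hb'⟩⟩ rfl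
      exact congrArg (fun x : (Σ B : O, (B : Set Ω)) => (x.1 : Set Ω)) this
    rcases IsPreprimitive.isTrivialBlock_of_isBlock hblock with hb | hb
    · have := Set.ncard_le_one_iff_subsingleton.2 hb
      omega
    · exact hTu hb
  push Not at hall
  obtain ⟨s, t, hs, ht, hst, hne⟩ := hall
  have hX : IsPGroup 2 (Subgroup.zpowers s) :=
    IsPGroup.of_card (n := 1) (by rw [Nat.card_zpowers, hs, pow_one])
  obtain ⟨S, hsS, htS, hSc⟩ := exists_sylow_centralizing h ht hX
    (Subgroup.zpowers_le.2 (Subgroup.mem_centralizer_singleton_iff.2 hst.eq))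
  have hsS' : s ∈ (S : Subgroup G) := hsS (Subgroup.mem_zpowers s)
  obtain ⟨hto, htle⟩ := hfix t ht
  obtain ⟨hso, hsle⟩ := hfix s hs
  rw [← hnc t ht] at hto htle
  rw [← hnc s hs] at hso hsle
  have heq : (fixedBy Ω s).ncard = (fixedBy Ω t).ncard := by
    rw [hnc s hs, hnc t ht]
    exact FixedSylow.card_fixed_conj (h.isConj_involutions hs ht)
  have hpres : ∀ b ∈ fixedBy Ω t, s • b ∈ fixedBy Ω t := by
    intro b hb
    rw [mem_fixedBy] at hb ⊢
    rw [← mul_smul, ← hst.eq, mul_smul, hb]
  have hss : ∀ b : Ω, s • s • b = b := fun b => by rw [← mul_smul, sq_one_of_orderOf hs, one_smul]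
  -- a point of `T` moved by `s`
  obtain ⟨β, hβ, hsβ⟩ : ∃ β ∈ fixedBy Ω t, s • β ≠ β := by
    by_contra hcon
    push Not at hcon
    exact hne (Set.eq_of_subset_of_ncard_le (fun b hb => hcon b hb) heq.le (Set.toFinite _)).symm
  set γ := s • β with hγdef
  have hγ : γ ∈ fixedBy Ω t := hpres β hβ
  have hsub : ({β, γ} : Set Ω) ⊆ fixedBy Ω t := by
    rintro b (rfl | rfl)
    · exact hβ
    · exact hγ
  have hpair : ({β, γ} : Set Ω).ncard = 2 := Set.ncard_pair (Ne.symm hsβ)
  obtain ⟨α, hα, hαn⟩ : ∃ α ∈ fixedBy Ω t, α ∉ ({β, γ} : Set Ω) := by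
    by_contra hcon
    push Not at hcon
    have h1 := Set.Subset.antisymm (fun b hb => hcon b hb) hsub
    rw [h1, hpair] at hto
    exact absurd hto (by decide)
  simp only [Set.mem_insert_iff, Set.mem_singleton_iff, not_or] at hαn
  have h3 : ({α, β, γ} : Set Ω).ncard = 3 :=
    Set.ncard_eq_three.2 ⟨α, β, γ, hαn.1, hαn.2, Ne.symm hsβ, rfl⟩
  have hTeq : fixedBy Ω t = {α, β, γ} := by
    refine (Set.eq_of_subset_of_ncard_le ?_ (by rw [h3]; exact htle) (Set.toFinite _)).symm
    rintro b (rfl | rfl | rfl) <;> assumption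
  have hsα : s • α = α := by
    have h1 := hpres α hα
    rw [hTeq] at h1
    rcases h1 with e | e | e
    · exact e
    · exfalso; exact hαn.2 (by rw [hγdef, ← e, hss])
    · exfalso; exact hαn.1 (MulAction.injective s e)
  exact ⟨⟨S, t, s, α, β, γ, htS, hsS', ht, hs, hSc, hαn.1, hαn.2, Ne.symm hsβ, hTeq, hsα, rfl⟩⟩

end Cfsg.Agent.Lib.TriplePrime63
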