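import Cfsg.Agent.Lib.TriplePrime63.Cross

/-!
# The Sylow `2`-subgroup is dihedral or has a cyclic subgroup of index two
-/

set_option autoImplicit false
set_option linter.unusedSectionVars false
set_option linter.style.haveILetI false

namespace Cfsg.Agent.Lib.TriplePrime63

open MulAction Cfsg.Agent.Lib.Classif
open scoped Pointwise

universe u v

variable {G : Type u} [Group G] [Finite G] {p : ℕ} {P : Sylow p G}
variable {Ω : Type v} [Fintype Ω] [MulAction G Ω] [IsPretransitive G Ω]

namespace Cross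

variable (C : Cross G Ω)

/-- The elements of `S` fixing `β`. -/
def K : Subgroup G := (C.S : Subgroup G) ⊓ stabilizer G C.β

theorem isPGroup_K : IsPGroup 2 C.K := C.S.isPGroup'.to_le inf_le_left

theorem mem_T {k : G} (hk : k ∈ (C.S : Subgroup G)) {b : Ω}
    (hb : b ∈ ({C.α, C.β, C.γ} : Set Ω)) : k • b ∈ ({C.α, C.β, C.γ} : Set Ω) := by
  rw [← C.fix_t, mem_fixedBy] at hb ⊢
  rw [← mul_smul, ← C.central k hk, mul_smul, hb]

theorem sγ : C.s • C.γ = C.β := by
  rw [← C.sβ, ← mul_smul, sq_one_of_orderOf C.hs, one_smul]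

theorem tβ : C.t • C.β = C.β := by
  have : C.β ∈ fixedBy Ω C.t := by rw [C.fix_t]; simp
  exact this

theorem t_mem_K : C.t ∈ C.K := ⟨C.t_mem, C.tβ⟩

theorem fix_α {k : G} (hk : k ∈ (C.S : Subgroup G)) : k • C.α = C.α := by
  haveI : Fact (Nat.Prime 2) := ⟨Nat.prime_two⟩
  classical
  obtain ⟨n, hn⟩ := C.S.isPGroup'.card_orbit C.α
  by_contra hne
  -- the orbit then is all of `{α, β, γ}`
  have hsub : orbit (C.S : Subgroup G) C.α ⊆ ({C.α, C.β, C.γ} : Set Ω) := by
    rintro b ⟨⟨g, hg⟩, rfl⟩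
    exact C.mem_T hg (by simp)
  have hk' : k • C.α ∈ orbit (C.S : Subgroup G) C.α := ⟨⟨k, hk⟩, rfl⟩
  have hclosed : ∀ b ∈ orbit (C.S : Subgroup G) C.α, C.s • b ∈ orbit (C.S : Subgroup G) C.α := by
    intro b hb
    exact (smul_orbit (⟨C.s, C.s_mem⟩ : (C.S : Subgroup G)) C.α).subset (Set.smul_mem_smul_set hb)
  have hβ : C.β ∈ orbit (C.S : Subgroup G) C.α ∧ C.γ ∈ orbit (C.S : Subgroup G) C.α := by
    rcases hsub hk' with e | e | e
    · exact absurd e hne
    · refine ⟨e ▸ hk', ?_⟩
      have := hclosed _ (e ▸ hk' : C.β ∈ orbit (C.S : Subgroup G) C.α)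
      rwa [C.sβ] at this
    · refine ⟨?_, e ▸ hk'⟩
      have := hclosed _ (e ▸ hk' : C.γ ∈ orbit (C.S : Subgroup G) C.α)
      rwa [C.sγ] at this
  have heq : orbit (C.S : Subgroup G) C.α = ({C.α, C.β, C.γ} : Set Ω) :=
    Set.Subset.antisymm hsub fun b hb => by
      rcases hb with rfl | rfl | rfl
      · exact mem_orbit_self _
      · exact hβ.1
      · exact hβ.2
  have hthree : ({C.α, C.β, C.γ} : Set Ω).ncard = 3 :=
    Set.ncard_eq_three.2 ⟨C.α, C.β, C.γ, C.αβ, C.αγ, C.βγ, rfl⟩
  rw [Nat.card_coe_set_eq, heq, hthree] at hn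
  rcases Nat.eq_zero_or_pos n with e | e
  · rw [e] at hn; norm_num at hn
  · have h2 : 2 ∣ 3 := hn ▸ dvd_pow_self 2 e.ne'
    omega

theorem fix_γ {k : G} (hk : k ∈ C.K) : k • C.γ = C.γ := by
  have hb := C.mem_T hk.1 (b := C.γ) (by simp)
  rcases hb with e | e | e
  · exact absurd (MulAction.injective k (e.trans (C.fix_α hk.1).symm)) C.αγ.symm
  · exact absurd (MulAction.injective k (e.trans (show k • C.β = C.β from hk.2).symm)) C.βγ.symm
  · exact e

theorem fixes_T {k : G} (hk : k ∈ C.K) {b : Ω} (hb : b ∈ ({C.α, C.β, C.γ} : Set Ω)) :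
    k • b = b := by
  rcases hb with rfl | rfl | rfl
  · exact C.fix_α hk.1
  · exact hk.2
  · exact C.fix_γ hk

theorem s_not_mem : C.s ∉ C.K := fun h => C.βγ (by
  have : C.s • C.β = C.β := h.2
  rw [C.sβ] at this
  exact this.symm)

theorem mem_K_or {k : G} (hk : k ∈ (C.S : Subgroup G)) : k ∈ C.K ∨ C.s * k ∈ C.K := by
  rcases C.mem_T hk (b := C.β) (by simp) with e | e | e
  · exact absurd (MulAction.injective k (e.trans (C.fix_α hk).symm)) C.αβ.symm
  · exact Or.inl ⟨hk, e⟩
  · refine Or.inr ⟨mul_mem C.s_mem hk, ?_⟩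
    show (C.s * k) • C.β = C.β
    rw [mul_smul, e, C.sγ]

theorem card_S : Nat.card (C.S : Subgroup G) = 2 * Nat.card C.K := by
  classical
  rw [two_mul, ← Nat.card_sum]
  symm
  refine Nat.card_congr (Equiv.ofBijective
    (Sum.elim (fun k : C.K => (⟨k.1, k.2.1⟩ : (C.S : Subgroup G)))
      (fun k : C.K => ⟨C.s * k.1, mul_mem C.s_mem k.2.1⟩)) ⟨?_, ?_⟩)
  · rintro (a | a) (b | b) hab <;> simp only [Sum.elim_inl, Sum.elim_inr, Subtype.ext_iff] at hab
    · exact congrArg Sum.inl (Subtype.ext hab)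
    · exfalso
      refine C.s_not_mem ?_
      have : C.s = a.1 * b.1⁻¹ := by rw [hab, mul_inv_cancel_right]
      rw [this]
      exact mul_mem a.2 (inv_mem b.2)
    · exfalso
      refine C.s_not_mem ?_
      have : C.s = b.1 * a.1⁻¹ := by rw [← hab, mul_inv_cancel_right]
      rw [this]
      exact mul_mem b.2 (inv_mem a.2)
    · exact congrArg Sum.inr (Subtype.ext (mul_left_cancel hab))
  · rintro ⟨k, hk⟩
    rcases C.mem_K_or hk with h | h
    · exact ⟨Sum.inl ⟨k, h⟩, rfl⟩
    · refine ⟨Sum.inr ⟨C.s * k, h⟩, Subtype.ext ?_⟩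
      show C.s * (C.s * k) = k
      rw [← mul_assoc, sq_one_of_orderOf C.hs, one_mul]

variable (h : Hyp p P) (hΩ : Fintype.card Ω = 3 * p)
include C h hΩ

theorem fixed_card {u : G} (hu : orderOf u = 2) : (fixedBy Ω u).ncard = 3 := by
  have e : ∀ w : G, (fixedBy Ω w).ncard = Nat.card {a : Ω // w • a = a} :=
    fun w => (Nat.card_coe_set_eq _).symm
  rw [e, FixedSylow.card_fixed_conj (h.isConj_involutions hu C.ht), ← e, C.fix_t]
  exact Set.ncard_eq_three.2 ⟨C.α, C.β, C.γ, C.αβ, C.αγ, C.βγ, rfl⟩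

theorem free {k : G} (hk : k ∈ C.K) (hk1 : k ≠ 1) {b : Ω} (hb : k • b = b) :
    b ∈ ({C.α, C.β, C.γ} : Set Ω) := by
  haveI : Fact (Nat.Prime 2) := ⟨Nat.prime_two⟩
  obtain ⟨n, hn⟩ := IsPGroup.iff_orderOf.1 C.isPGroup_K ⟨k, hk⟩
  rw [Subgroup.orderOf_mk] at hn
  have hn0 : n ≠ 0 := fun e => hk1 (orderOf_eq_one_iff.1 (by rw [hn, e, pow_zero]))
  set u := k ^ 2 ^ (n - 1) with hu
  have hu2 : orderOf u = 2 := by
    rw [hu, orderOf_pow_of_dvd (by positivity) (by rw [hn]; exact pow_dvd_pow 2 (by omega)), hn,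
      Nat.pow_div (by omega) two_pos, show n - (n - 1) = 1 by omega, pow_one]
  have hsub : ({C.α, C.β, C.γ} : Set Ω) ⊆ fixedBy Ω u :=
    fun c hc => C.fixes_T (pow_mem hk _) hc
  have h3 : ({C.α, C.β, C.γ} : Set Ω).ncard = 3 :=
    Set.ncard_eq_three.2 ⟨C.α, C.β, C.γ, C.αβ, C.αγ, C.βγ, rfl⟩
  rw [Set.eq_of_subset_of_ncard_le hsub (by rw [C.fixed_card h hΩ hu2, h3]) (Set.toFinite _)]
  exact (stabilizer G b).pow_mem hb _

theorem card_K_dvd : Nat.card C.K ∣ 3 * (p - 1) := by
  classical
  haveI := Fintype.ofFinite C.K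
  haveI := Fintype.ofFinite (orbitRel.Quotient C.K Ω)
  have hB := sum_card_fixedBy_eq_card_orbits_mul_card_group C.K Ω
  rw [← Finset.add_sum_erase _ _ (Finset.mem_univ (1 : C.K))] at hB
  have h1 : Fintype.card (fixedBy Ω (1 : C.K)) = 3 * p := by
    rw [← hΩ]
    exact Fintype.card_congr (Equiv.subtypeUnivEquiv fun x => one_smul C.K x)
  have hrest : ∀ k ∈ Finset.univ.erase (1 : C.K), Fintype.card (fixedBy Ω k) = 3 := by
    intro k hk
    have hk1 : (k : G) ≠ 1 := fun e => (Finset.mem_erase.1 hk).1 (Subtype.ext e)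
    rw [← Nat.card_eq_fintype_card, Nat.card_coe_set_eq]
    have : fixedBy Ω k = ({C.α, C.β, C.γ} : Set Ω) := by
      ext b
      exact ⟨fun hb => C.free h hΩ k.2 hk1 hb, fun hb => C.fixes_T k.2 hb⟩
    rw [this]
    exact Set.ncard_eq_three.2 ⟨C.α, C.β, C.γ, C.αβ, C.αγ, C.βγ, rfl⟩
  rw [h1, Finset.sum_congr rfl hrest, Finset.sum_const, Finset.card_erase_of_mem (Finset.mem_univ _),
    Finset.card_univ, smul_eq_mul, ← Nat.card_eq_fintype_card (α := C.K)] at hB
  have hp : 1 ≤ p := h.prime.one_le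
  have hK : 1 ≤ Nat.card C.K := Nat.card_pos
  refine (Nat.dvd_add_iff_left (dvd_mul_right (Nat.card C.K) 3)).2
    ⟨Fintype.card (orbitRel.Quotient C.K Ω), ?_⟩
  rw [Nat.mul_comm (Nat.card C.K) (Fintype.card _), ← hB]
  omega

theorem commute_s {k : G} (hk : k ∈ (C.S : Subgroup G)) (hc : Commute k C.s) :
    k = 1 ∨ k = C.t ∨ k = C.s ∨ k = C.s * C.t := by
  have key : ∀ k ∈ C.K, Commute k C.s → k = 1 ∨ k = C.t := by
    intro k hk hc
    classical
    have hF := C.fixed_card h hΩ C.hs
    have hαF : C.α ∈ fixedBy Ω C.s := C.sα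
    have hout : ∀ b ∈ fixedBy Ω C.s \ {C.α}, b ∉ ({C.α, C.β, C.γ} : Set Ω) := by
      rintro b ⟨hb, hbα⟩ (rfl | rfl | rfl)
      · exact hbα rfl
      · exact C.βγ ((show C.s • C.β = C.β from hb).symm.trans C.sβ)
      · exact C.βγ (C.sγ.symm.trans (show C.s • C.γ = C.γ from hb))
    have hcard : (fixedBy Ω C.s \ {C.α}).ncard = 2 := by
      rw [Set.ncard_diff_singleton_of_mem hαF, hF]
    obtain ⟨δ, ε, hδε, hpair⟩ := Set.ncard_eq_two.1 hcard
    -- an element of `K` centralising `s` either is trivial or exchanges the pair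
    have hswap : ∀ m ∈ C.K, Commute m C.s → m ≠ 1 → m • δ = ε := by
      intro m hm hmc hm1
      have hmem : m • δ ∈ ({δ, ε} : Set Ω) := by
        rw [← hpair]
        have hδ : δ ∈ fixedBy Ω C.s \ {C.α} := by rw [hpair]; simp
        refine ⟨?_, fun e => ?_⟩
        · show C.s • m • δ = m • δ
          rw [← mul_smul, ← hmc.eq, mul_smul, show C.s • δ = δ from hδ.1]
        · exact hδ.2 (MulAction.injective m
            ((show m • δ = C.α from e).trans (C.fix_α hm.1).symm))
      rcases hmem with e | e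
      · exfalso
        exact hout δ (by rw [hpair]; simp) (C.free h hΩ hm hm1 e)
      · exact e
    by_cases h1 : k = 1
    · exact Or.inl h1
    right
    have ht1 : C.t ≠ 1 := fun e => by have := C.ht; rw [e, orderOf_one] at this; omega
    have hts : Commute C.t C.s := (C.central C.s C.s_mem).symm
    have e1 := hswap k hk hc h1
    have e2 := hswap C.t C.t_mem_K hts ht1
    by_contra hne
    have hm : C.t⁻¹ * k ∈ C.K := mul_mem (inv_mem C.t_mem_K) hk
    have hm1 : C.t⁻¹ * k ≠ 1 := fun e => hne (inv_mul_eq_one.1 e).symm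
    have e3 : (C.t⁻¹ * k) • δ = δ := by rw [mul_smul, e1, ← e2, inv_smul_smul]
    exact hout δ (by rw [hpair]; simp) (C.free h hΩ hm hm1 e3)
  rcases C.mem_K_or hk with hK | hK
  · rcases key k hK hc with e | e
    · exact Or.inl e
    · exact Or.inr (Or.inl e)
  · have hs2 := sq_one_of_orderOf C.hs
    have e : k = C.s * (C.s * k) := by rw [← mul_assoc, hs2, one_mul]
    rcases key _ hK ((Commute.refl C.s).mul_left hc) with e' | e'
    · exact Or.inr (Or.inr (Or.inl (by rw [e, e', mul_one])))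
    · exact Or.inr (Or.inr (Or.inr (by rw [e, e'])))

/-- Either the Sylow `2`-subgroups are dihedral or `S` has a cyclic maximal subgroup `⟨x⟩` of
order at least eight, not containing `s`, with `(x s) ^ 2 = t`. -/
theorem dihedral_or : GorensteinWalter.HasDihedralSylow G ∨
    ∃ x ∈ (C.S : Subgroup G), Nat.card (C.S : Subgroup G) = 2 * orderOf x ∧ 8 ≤ orderOf x ∧
      C.t ∈ Subgroup.zpowers x ∧ C.s ∉ Subgroup.zpowers x ∧ x * C.s * (x * C.s) = C.t := by
  classical
  haveI : Fact (Nat.Prime 2) := ⟨Nat.prime_two⟩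
  have hsuf : ∀ n, 2 ≤ n → Nonempty ((C.S : Subgroup G) ≃* DihedralGroup n) →
      GorensteinWalter.HasDihedralSylow G := fun n hn he T =>
    ⟨n, hn, he.map fun e => (Sylow.equiv T C.S).trans e⟩
  let S := (C.S : Subgroup G)
  let t' : S := ⟨C.t, C.t_mem⟩
  let s' : S := ⟨C.s, C.s_mem⟩
  have ht' : orderOf t' = 2 := by rw [Subgroup.orderOf_mk]; exact C.ht
  have hs' : orderOf s' = 2 := by rw [Subgroup.orderOf_mk]; exact C.hs
  have htt : t' * t' = 1 := sq_one_of_orderOf ht'
  have hss : s' * s' = 1 := sq_one_of_orderOf hs'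
  have ht1 : t' ≠ 1 := fun e => by rw [e, orderOf_one] at ht'; omega
  have hs1 : s' ≠ 1 := fun e => by rw [e, orderOf_one] at hs'; omega
  have hne : s' ≠ t' := fun e => C.s_not_mem (by
    have : C.s = C.t := congrArg Subtype.val e
    rw [this]; exact C.t_mem_K)
  have hcent : ∀ k : S, k * t' = t' * k := fun k => Subtype.ext (C.central k k.2)
  have hcs : ∀ k : S, k * s' = s' * k → k = 1 ∨ k = t' ∨ k = s' ∨ k = s' * t' := by
    intro k hk
    rcases C.commute_s h hΩ k.2 (congrArg Subtype.val hk) with e | e | e | e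
    · exact Or.inl (Subtype.ext e)
    · exact Or.inr (Or.inl (Subtype.ext e))
    · exact Or.inr (Or.inr (Or.inl (Subtype.ext e)))
    · exact Or.inr (Or.inr (Or.inr (Subtype.ext e)))
  -- the four-group of `s` and `t`
  set A : Subgroup S := Subgroup.centralizer ({s'} : Set S) with hA
  have hAset : (A : Set S) = {1, t', s', s' * t'} := by
    ext k
    rw [SetLike.mem_coe, hA, Subgroup.mem_centralizer_singleton_iff]
    refine ⟨fun hk => hcs k hk, ?_⟩
    rintro (rfl | rfl | rfl | rfl)
    · rw [one_mul, mul_one]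
    · exact (hcent s').symm
    · rfl
    · rw [mul_assoc, ← hcent s', ← mul_assoc]
  have hAcard : Nat.card A = 4 := by
    have : Nat.card A = Nat.card ({1, t', s', s' * t'} : Set S) := by rw [← hAset]; rfl
    rw [this, Nat.card_coe_set_eq,
      Set.ncard_insert_of_notMem (by
        simp only [Set.mem_insert_iff, Set.mem_singleton_iff, not_or]
        exact ⟨ht1.symm, hs1.symm, fun e => hne (mul_left_cancel (a := s') (by rw [hss, ← e]))⟩),
      Set.ncard_insert_of_notMem (by
        simp only [Set.mem_insert_iff, Set.mem_singleton_iff, not_or]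
        exact ⟨hne.symm, fun e => hs1 (mul_right_cancel (b := t') (by rw [← e, one_mul]))⟩),
      Set.ncard_pair (fun e => ht1 (by simpa using e.symm))]
  obtain ⟨n, hn⟩ := IsPGroup.iff_card.1 C.S.isPGroup'
  have hn2 : 2 ≤ n := by
    have := Subgroup.card_le_card_group A
    rw [hAcard, hn] at this
    by_contra hlt
    have : n = 0 ∨ n = 1 := by omega
    rcases this with e | e <;> subst e <;> omega
  rcases Nat.lt_or_ge n 3 with hn3 | hn3
  · -- a four-group
    left
    obtain rfl : n = 2 := by omega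
    refine hsuf 2 le_rfl (PGroups.nonempty_dihedral_equiv (a := t') (x := s') ht'
      (by rw [pow_two]; exact hss) ?_ ?_ (by rw [hn]; norm_num))
    · rw [hcent s', mul_inv_cancel_right, inv_eq_of_mul_eq_one_right htt]
    · intro hm
      obtain ⟨j, hj⟩ := Subgroup.mem_zpowers_iff.1 hm
      have hc : t' ^ j = 1 ∨ t' ^ j = t' := by
        rw [← zpow_mod_orderOf, ht']
        have : j % 2 = 0 ∨ j % 2 = 1 := by omega
        rcases this with e | e <;> simp [e]
      rcases hc with e | e <;> rw [e] at hj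
      · exact hs1 hj.symm
      · exact hne hj.symm
  have hcomm : ∀ a ∈ A, ∀ b ∈ A, a * b = b * a := by
    intro a ha b hb
    have hall : ∀ c ∈ A, c * a = a * c := by
      intro c hc
      have hcs' : c * s' = s' * c := Subgroup.mem_centralizer_singleton_iff.1 hc
      rcases hcs a (Subgroup.mem_centralizer_singleton_iff.1 ha) with rfl | rfl | rfl | rfl
      · rw [mul_one, one_mul]
      · exact hcent c
      · exact hcs'
      · rw [← mul_assoc, hcs', mul_assoc, hcent c, ← mul_assoc]
    exact (hall b hb).symm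
  have hAcent : Subgroup.centralizer (A : Set S) = A := by
    refine le_antisymm (fun k hk => ?_) fun k hk y hy => hcomm y hy k hk
    rw [hA, Subgroup.mem_centralizer_singleton_iff]
    exact (hk s' (by rw [hAset]; simp)).symm
  have hnS : Nat.card S = 2 ^ n := hn
  haveI : Group.IsNilpotent S := C.S.isPGroup'.isNilpotent
  have hclass := PGroups.class_of_self_centralizing_sq n A hnS (by rw [hAcard]; norm_num) hAcent
  have hidx := PGroups.index_commutator_of_class (p := 2) n (by omega) hnS hclass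
  obtain ⟨Y, hY, hYi⟩ := PGroups.exists_cyclic_index_two n hn3 hnS (by rw [hidx]; norm_num)
  obtain ⟨x, hx⟩ := Y.isCyclic_iff_exists_zpowers_eq_top.1 hY
  have hxY : x ∈ Y := hx ▸ Subgroup.mem_zpowers x
  have hxo : orderOf x * 2 = 2 ^ n := by
    have h1 := Subgroup.card_mul_index Y
    rw [hYi, hnS, ← hx, Nat.card_zpowers] at h1
    exact h1
  have hx4 : 4 ≤ orderOf x := by
    have : 2 ^ 3 ≤ 2 ^ n := Nat.pow_le_pow_right two_pos hn3
    omega
  have hYcomm : ∀ a ∈ Y, ∀ b ∈ Y, a * b = b * a := fun a ha b hb =>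
    congrArg Subtype.val (hY.isMulCommutative.is_comm.comm (⟨a, ha⟩ : Y) ⟨b, hb⟩)
  have hxs : x * s' ≠ s' * x := by
    intro e
    have h2 : Nat.card Y ≤ Nat.card A := Subgroup.card_le_of_le (by
      rw [← hx, Subgroup.zpowers_le, hA, Subgroup.mem_centralizer_singleton_iff]; exact e)
    rw [hAcard, ← hx, Nat.card_zpowers] at h2
    have hfour : orderOf x = 4 := by omega
    rcases hcs x e with e' | e' | e' | e' <;> rw [e'] at hfour
    · simp at hfour
    · omega
    · omega
    · have : (s' * t') ^ 2 = 1 := by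
        rw [pow_two, ← mul_assoc, mul_assoc s' t' s', ← hcent s', ← mul_assoc, hss, one_mul, htt]
      have := Nat.le_of_dvd two_pos (orderOf_dvd_of_pow_eq_one this)
      omega
  have hsY : s' ∉ Y := fun hm => hxs (hYcomm x hxY s' hm)
  have hnorm : Y.Normal := Subgroup.normal_of_index_eq_two hYi
  have hmem : ∀ w ∈ Y, w * s' = s' * w → w = 1 ∨ w = t' := by
    intro w hw hws
    rcases hcs w hws with e | e | e | e
    · exact Or.inl e
    · exact Or.inr e
    · exact absurd (e ▸ hw) hsY
    · exfalso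
      have h1 : x * (s' * t') = (s' * t') * x := hYcomm x hxY _ (e ▸ hw)
      refine hxs (mul_right_cancel (b := t') ?_)
      rw [mul_assoc, h1, mul_assoc, ← hcent x, ← mul_assoc]
  have hconj : s' * x * s' ∈ Y := by
    have := hnorm.conj_mem x hxY s'
    rwa [inv_eq_of_mul_eq_one_right hss] at this
  have hw : x * (s' * x * s') = x * s' * (x * s') := by simp only [mul_assoc]
  have hwY : x * s' * (x * s') ∈ Y := hw ▸ mul_mem hxY hconj
  have hws : x * s' * (x * s') * s' = s' * (x * s' * (x * s')) := by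
    rw [← hw]
    calc x * (s' * x * s') * s' = x * (s' * x) * (s' * s') := by simp only [mul_assoc]
      _ = x * (s' * x) := by rw [hss, mul_one]
      _ = s' * ((s' * x * s') * x) := by
          rw [show s' * ((s' * x * s') * x) = (s' * s') * (x * (s' * x)) by simp only [mul_assoc],
            hss, one_mul]
      _ = s' * (x * (s' * x * s')) := by rw [hYcomm _ hconj x hxY]
  rcases hmem _ hwY hws with e | e
  · left
    have hN : Nat.card S = 2 * orderOf x := by rw [hnS, ← hxo, mul_comm]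
    haveI : NeZero (orderOf x) := ⟨(orderOf_pos x).ne'⟩
    refine hsuf (orderOf x) (by omega) (PGroups.nonempty_dihedral_equiv (a := x) (x := s') rfl
      (by rw [pow_two]; exact hss) ?_ (hx.symm ▸ hsY) hN)
    rw [inv_eq_of_mul_eq_one_right hss]
    exact eq_inv_of_mul_eq_one_right (hw.trans e)
  · right
    have hne4 : orderOf x ≠ 4 := by
      intro h4
      have hx2 : x * x = t' := by
        have h22 : orderOf (x * x) = 2 := by
          rw [← pow_two, orderOf_pow_of_dvd two_ne_zero (by rw [h4]; norm_num), h4]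
        refine (hmem (x * x) (mul_mem hxY hxY) ?_).resolve_left fun e1 => by
          rw [e1, orderOf_one] at h22; omega
        -- the only involution of `Y` is centralised by `s'`
        have hsq : s' * (x * x) * s' = x * x := by
          have ho : orderOf (s' * (x * x) * s') = 2 := by
            have : s' * (x * x) * s' = MulAut.conj s' (x * x) := by
              rw [MulAut.conj_apply, inv_eq_of_mul_eq_one_right hss]
            rw [this, (MulAut.conj s').orderOf_eq, h22]
          have hin : s' * (x * x) * s' ∈ Y := by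
            have := hnorm.conj_mem _ (mul_mem hxY hxY) s'
            rwa [inv_eq_of_mul_eq_one_right hss] at this
          rw [← hx, ← mem_powers_iff_mem_zpowers] at hin
          obtain ⟨j, hj⟩ := hin
          simp only at hj
          rw [← hj] at ho ⊢
          rw [← pow_two, ← pow_mod_orderOf x j, h4]
          rw [← pow_mod_orderOf x j, h4] at ho
          have : j % 4 < 4 := Nat.mod_lt _ (by norm_num)
          interval_cases hj4 : j % 4
          · simp at ho
          · rw [pow_one, h4] at ho; omega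
          · rfl
          · rw [Nat.Coprime.orderOf_pow (by rw [h4]; decide), h4] at ho; omega
        calc x * x * s' = s' * (x * x) * s' * s' := by rw [hsq]
          _ = s' * (x * x) := by rw [mul_assoc, hss, mul_one]
      refine hxs ?_
      have h1 : s' * x * s' = x := mul_left_cancel (a := x) (by rw [hw, e, hx2])
      calc x * s' = s' * x * s' * s' := by rw [h1]
        _ = s' * x := by rw [mul_assoc, hss, mul_one]
    refine ⟨x, x.2, ?_, ?_, ?_, ?_, congrArg Subtype.val e⟩
    · rw [Subgroup.orderOf_coe, hnS, ← hxo, mul_comm]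
    · rw [Subgroup.orderOf_coe]
      obtain ⟨j, hj, hje⟩ := (Nat.dvd_prime_pow Nat.prime_two).1 (Dvd.intro 2 hxo)
      rw [hje] at hne4 hx4 ⊢
      have : 3 ≤ j := by
        by_contra hlt
        interval_cases j <;> omega
      exact Nat.pow_le_pow_right two_pos this
    · have hm : t' ∈ Subgroup.zpowers x := hx ▸ (e ▸ hwY)
      obtain ⟨j, hj⟩ := Subgroup.mem_zpowers_iff.1 hm
      exact Subgroup.mem_zpowers_iff.2 ⟨j, by
        have := congrArg Subtype.val hj
        simpa using this⟩
    · intro hm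
      obtain ⟨j, hj⟩ := Subgroup.mem_zpowers_iff.1 hm
      exact hsY (hx ▸ Subgroup.mem_zpowers_iff.2 ⟨j, Subtype.ext (by simpa using hj)⟩)

end Cross

end Cfsg.Agent.Lib.TriplePrime63
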