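import Cfsg.Agent.Lib.TriplePrime63.Cross
import Cfsg.Agent.Lib.TriplePrime63.Sylow
import Cfsg.Agent.Lib.DicksonId.Classify
import Cfsg.Agent.Lib.DicksonId.Consequences
import Cfsg.Agent.Lib.DicksonId.PGLClass
import Cfsg.Agent.Lib.DicksonId.Exclude
import Cfsg.Agent.Lib.DicksonId.OddArith
import Cfsg.Agent.Lib.Linear.SmallIso.PSL9

/-!
# The groups with dihedral Sylow `2`-subgroups
-/

set_option autoImplicit false
set_option linter.unusedSectionVars false
set_option linter.style.haveILetI false

namespace Cfsg.Agent.Lib.TriplePrime63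

open MulAction Cfsg.Agent.Lib.DicksonId

universe u v

theorem eq_of_isCyclic {H : Type*} [Group H] [Finite H] (hc : IsCyclic H) {a b : H}
    (ha : orderOf a = 2) (hb : orderOf b = 2) : a = b := by
  classical
  haveI := Fintype.ofFinite H
  haveI := hc
  have h := IsCyclic.card_orderOf_eq_totient (α := H) (d := 2)
    (ha ▸ orderOf_dvd_card)
  rw [Nat.totient_two] at h
  obtain ⟨c, hc'⟩ := Finset.card_eq_one.1 h
  have h1 : a ∈ ({c} : Finset H) := hc' ▸ by simp [ha]
  have h2 : b ∈ ({c} : Finset H) := hc' ▸ by simp [hb]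
  rw [Finset.mem_singleton] at h1 h2
  rw [h1, h2]

section PSL

variable {F : Type} [Field F] [Fintype F]

local notation "PSL2" => Matrix.ProjectiveSpecialLinearGroup (Fin 2) F

/-- A subgroup of `PSL(2, q)` containing two commuting involutions and of order at least
`q (q - 1) / 3` is everything or of order `12`, `24` or `60`, for `q ≥ 11`. -/
theorem psl_subgroup {ℓ : ℕ} [Fact ℓ.Prime] [CharP F ℓ] (hl2 : ℓ ≠ 2) (hq : 11 ≤ Fintype.card F)
    (H : Subgroup PSL2) (hH : H ≠ ⊤) {a b : PSL2} (ha : a ∈ H) (hb : b ∈ H) (hao : orderOf a = 2)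
    (hbo : orderOf b = 2) (hab : a ≠ b) (hc : Commute a b)
    (hbig : Fintype.card F * (Fintype.card F - 1) ≤ 3 * Nat.card H) :
    Nat.card H = 12 ∨ Nat.card H = 24 ∨ Nat.card H = 60 := by
  classical
  set q := Fintype.card F with hqd
  have hq1 : 10 ≤ q - 1 := by omega
  have hnc : ∀ V : Subgroup PSL2, a ∈ V → b ∈ V → ¬ IsCyclic V := by
    intro V haV hbV hV
    refine hab ?_
    have := eq_of_isCyclic hV (a := ⟨a, haV⟩) (b := ⟨b, hbV⟩)
      (by rw [Subgroup.orderOf_mk, hao]) (by rw [Subgroup.orderOf_mk, hbo])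
    exact congrArg Subtype.val this
  rcases classify (p := ℓ) H with ⟨h, -⟩ | ⟨k, hk, ⟨x, -, hx⟩, ⟨e⟩⟩ | ⟨U, hU⟩ | ⟨-, ⟨e⟩⟩ |
      ⟨-, ⟨e⟩⟩ | ⟨-, ⟨e⟩⟩ | ⟨k, hk⟩
  · exact absurd h (hnc H ha hb)
  · exfalso
    have hkd : k ≤ (q + 1) / 2 := by
      have h2 : Nat.gcd 2 (q - 1) = 2 := by
        rw [hqd, gcd_two_eq (p := ℓ), if_neg hl2]
      have hd := orderOf_dvd_of_not_dvd (p := ℓ) (x := x) (by rw [hx]; exact hk)
      rw [hx, ← hqd, h2] at hd
      rcases hd with hd | hd <;> have := Nat.le_of_dvd (by omega) hd <;> omega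
    have hk0 : k ≠ 0 := fun e' => hk (e' ▸ dvd_zero ℓ)
    have hcard : Nat.card H = 2 * k := by
      haveI : NeZero k := ⟨hk0⟩
      rw [Nat.card_congr e.toEquiv, DihedralGroup.nat_card]
    rw [hcard] at hbig
    have : q * 10 ≤ q * (q - 1) := Nat.mul_le_mul_left q hq1
    omega
  · exfalso
    haveI : Fact (Nat.Prime 2) := ⟨Nat.prime_two⟩
    have hz : ∀ z : PSL2, orderOf z = 2 → IsPGroup 2 (Subgroup.zpowers z) := fun z hz =>
      IsPGroup.of_card (n := 1) (by rw [Nat.card_zpowers, hz, pow_one])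
    have hle : Subgroup.zpowers a ⊔ Subgroup.zpowers b ≤ H :=
      sup_le (Subgroup.zpowers_le.2 ha) (Subgroup.zpowers_le.2 hb)
    have hp2 : IsPGroup 2 (Subgroup.zpowers a ⊔ Subgroup.zpowers b : Subgroup PSL2) := by
      refine (hz a hao).to_sup_of_normal_left' (hz b hbo) ?_
      rw [Subgroup.zpowers_le, Subgroup.mem_normalizer_iff]
      intro y
      have hcom : ∀ y ∈ Subgroup.zpowers a, b * y * b⁻¹ = y := by
        intro y hy
        obtain ⟨n, rfl⟩ := Subgroup.mem_zpowers_iff.1 hy
        rw [((hc.zpow_left n).symm).eq, mul_inv_cancel_right]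
      refine ⟨fun hy => by rw [hcom y hy]; exact hy, fun hy => ?_⟩
      have := hcom _ hy
      have e' : b * y * b⁻¹ = y := by
        have h1 : b * (b * y * b⁻¹) * b⁻¹ = b * y * b⁻¹ := this
        exact mul_left_cancel (mul_right_cancel h1)
      rwa [e'] at hy
    obtain ⟨n, hn⟩ := IsPGroup.iff_card.1 hp2
    refine hnc _ (Subgroup.mem_sup_left (Subgroup.mem_zpowers a))
      (Subgroup.mem_sup_right (Subgroup.mem_zpowers b))
      ((borel_props hl2 (by omega) U).2 _ (hle.trans hU) ?_)
    rw [hn]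
    intro hd
    exact hl2 ((Nat.prime_dvd_prime_iff_eq Fact.out Nat.prime_two).1
      ((Fact.out : ℓ.Prime).dvd_of_dvd_pow hd))
  · left
    rw [Nat.card_congr e.toEquiv]
    have := two_mul_nat_card_alternatingGroup (α := Fin 4)
    rw [Nat.card_perm, Nat.card_fin] at this
    norm_num [Nat.factorial] at this ⊢
    omega
  · right; left
    rw [Nat.card_congr e.toEquiv, Nat.card_perm, Nat.card_fin]; rfl
  · right; right
    rw [Nat.card_congr e.toEquiv]
    have := two_mul_nat_card_alternatingGroup (α := Fin 5)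
    rw [Nat.card_perm, Nat.card_fin] at this
    norm_num [Nat.factorial] at this ⊢
    omega
  · exfalso
    obtain ⟨hk0, h3, hdvd, g, φ, hφ⟩ := hk
    obtain ⟨f, hf, hqf⟩ := Linear.exists_card_eq_pow (F := F) ℓ
    obtain ⟨j, hj⟩ := hdvd f hqf
    set r := ℓ ^ k with hr
    haveI : Fintype (GaloisField ℓ k) := Fintype.ofFinite _
    have hcases : 2 * Nat.card H = r * ((r - 1) * (r + 1)) ∨
        2 * Nat.card H = 2 * (r * ((r - 1) * (r + 1))) := by
      rw [← card_conjG g H]
      rcases hφ with e | ⟨-, -, ψ, hψ, e⟩ <;> rw [e]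
      · exact Or.inl (two_mul_card_range hl2 hk0 φ)
      · exact Or.inr (by rw [card_pgl_range hψ, card_galois hk0])
    have hPSL : 2 * Nat.card PSL2 = q * ((q - 1) * (q + 1)) := by
      have := card_PSL_mul (F := F) (p := ℓ)
      rwa [gcd_two_eq (p := ℓ), if_neg hl2] at this
    have hlt : Nat.card H < Nat.card PSL2 :=
      lt_of_le_of_ne (Subgroup.card_le_card_group H) fun e => hH (Subgroup.eq_top_of_card_eq H e)
    rcases Nat.lt_or_ge j 2 with hj2 | hj2
    · have hj1 : j = 1 := by
        rcases Nat.eq_zero_or_pos j with e | e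
        · rw [e, mul_zero] at hj; omega
        · omega
      rw [hj1, mul_one] at hj
      have hrq : r = q := by rw [hr, ← hj, hqd, hqf]
      rw [hrq] at hcases
      omega
    · have hrr : r * r ≤ q := by
        rw [hr, hqd, hqf, ← pow_add]
        exact Nat.pow_le_pow_right (Fact.out : ℓ.Prime).pos (by rw [hj]; nlinarith)
      have h3r : 3 * r < q - 1 := by
        rcases Nat.lt_or_ge r 4 with h | h
        · omega
        · have : 4 * r ≤ r * r := Nat.mul_le_mul_right r h
          omega
      have hle : Nat.card H ≤ r * ((r - 1) * (r + 1)) := by omega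
      have hr2 : (r - 1) * (r + 1) ≤ r * r := by
        have : 1 ≤ r := by omega
        zify [this]
        nlinarith
      have h4 : 3 * (r * ((r - 1) * (r + 1))) < q * (q - 1) :=
        calc 3 * (r * ((r - 1) * (r + 1))) = ((r - 1) * (r + 1)) * (3 * r) := by ring
          _ ≤ q * (3 * r) := Nat.mul_le_mul_right _ (hr2.trans hrr)
          _ < q * (q - 1) := Nat.mul_lt_mul_of_pos_left h3r (by omega)
      omega

end PSL

variable {G : Type u} [Group G] [Finite G] {p : ℕ} {P : Sylow p G}
variable {Ω : Type v} [Fintype Ω] [MulAction G Ω] [IsPretransitive G Ω]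

/-- Among the groups with dihedral Sylow `2`-subgroups only `A₆` occurs. -/
theorem Cross.eq_alt_six (C : Cross G Ω) (h : Hyp p P) (hΩ : Fintype.card Ω = 3 * p)
    [IsPreprimitive G Ω] (hK : GorensteinWalter.IsKnownD G) :
    p = 5 ∧ Nonempty (G ≃* alternatingGroup (Fin 6)) := by
  classical
  haveI := h.simple
  obtain ⟨hord, hmod⟩ := h.index_norm_mod
  have hp3 := h.gt_three
  have hp5 : 5 ≤ p := by
    rcases Nat.lt_or_ge p 5 with hlt | hge
    · exfalso
      have : p = 4 := by omega
      exact absurd (this ▸ h.prime) (by norm_num)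
    · exact hge
  rcases hK with ⟨F, iF, jF, hodd, hq3, ⟨e⟩⟩ | ⟨e⟩
  swap
  · exfalso
    have h7 := two_mul_nat_card_alternatingGroup (α := Fin 7)
    obtain ⟨e⟩ : Nonempty (G ≃* alternatingGroup (Fin 7)) := by assumption
    rw [← Nat.card_congr e.toEquiv, hord, Nat.card_perm, Nat.card_fin] at h7
    norm_num [Nat.factorial] at h7
    have hd : p ∣ 5040 := ⟨4 * Nat.card (Sylow p G), by rw [← h7]; ring⟩
    have hle : p ≤ 7 := by
      by_contra hlt
      have h1 : p ∣ 2 ^ 4 * 3 ^ 2 * (5 * 7) := by norm_num; exact hd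
      rcases h.prime.dvd_mul.1 h1 with h2 | h2
      · rcases h.prime.dvd_mul.1 h2 with h3 | h3 <;>
          have := Nat.le_of_dvd (by norm_num) (h.prime.dvd_of_dvd_pow h3) <;> omega
      · rcases h.prime.dvd_mul.1 h2 with h3 | h3 <;>
          have := Nat.le_of_dvd (by norm_num) h3 <;> omega
    interval_cases p
    · omega
    · omega
    · omega
  set q := Fintype.card F with hqd
  obtain ⟨ℓ, _⟩ := CharP.exists F
  obtain ⟨f, hl, hqf⟩ := FiniteField.card F ℓ
  haveI : Fact ℓ.Prime := ⟨hl⟩
  have hl2 : ℓ ≠ 2 := by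
    rintro rfl
    rw [hqd, hqf, Nat.odd_pow_iff f.ne_zero] at hodd
    exact absurd hodd (by decide)
  have hPSL : 2 * Nat.card G = q * ((q - 1) * (q + 1)) := by
    have h1 := card_PSL_mul (F := F) (p := ℓ)
    rwa [gcd_two_eq (p := ℓ), if_neg hl2, ← Nat.card_congr e.toEquiv] at h1
  -- the point stabiliser
  set H := stabilizer G C.α with hH
  have hidx : H.index = 3 * p := by
    rw [hH, index_stabilizer_of_transitive, Nat.card_eq_fintype_card, hΩ]
  have hHcard : Nat.card H * (3 * p) = Nat.card G := by rw [← hidx, Subgroup.card_mul_index]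
  have hpne : p = q → p = 5 := by
    intro hpq
    subst hpq
    have hn : 4 * Nat.card (Sylow q G) + 1 = q * q := by
      have h1 : q * (4 * Nat.card (Sylow q G)) = q * ((q - 1) * (q + 1)) := by
        rw [← hPSL, hord]; ring
      have h2 := Nat.eq_of_mul_eq_mul_left h.prime.pos h1
      rw [h2, show q = (q - 1) + 1 by omega]
      simp only [Nat.add_sub_cancel]
      ring
    obtain ⟨d, hd⟩ : ∃ d, Nat.card (Sylow q G) = q * d + 1 :=
      ⟨Nat.card (Sylow q G) / q, by
        have := Nat.div_add_mod (Nat.card (Sylow q G)) q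
        omega⟩
    rw [hd] at hn
    have : q ∣ 5 := by
      have h3 : q ∣ q * (4 * d) + 5 := ⟨q, by rw [← hn]; ring⟩
      exact (Nat.dvd_add_right (dvd_mul_right q _)).1 h3
    exact (Nat.prime_dvd_prime_iff_eq h.prime (by norm_num)).1 this
  have hpq : q = 5 ∨ (2 * p ≤ q + 1) := by
    by_cases hpl : p = ℓ
    · left
      have hf1 : (f : ℕ) = 1 := by
        by_contra hne
        apply h.not_sq_dvd
        have h2 : p ^ 2 ∣ 2 * Nat.card G := by
          rw [hPSL]
          refine dvd_mul_of_dvd_left ?_ _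
          rw [hqd, hqf, ← hpl]
          exact pow_dvd_pow p (by have := f.pos; omega)
        exact ((Nat.coprime_pow_left_iff (by norm_num) p 2).2
          ((Nat.coprime_primes h.prime Nat.prime_two).2 h.ne_two)).dvd_of_dvd_mul_left h2
      have hpq' : p = q := by rw [hqd, hqf, hf1, pow_one, hpl]
      rw [← hpq']; exact hpne hpq'
    · right
      have hd : p ∣ q * ((q - 1) * (q + 1)) := hPSL ▸ h.dvd_card.mul_left 2
      rcases h.prime.dvd_mul.1 hd with hd | hd
      · exfalso
        rw [hqd, hqf] at hd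
        exact hpl ((Nat.prime_dvd_prime_iff_eq h.prime hl).1 (h.prime.dvd_of_dvd_pow hd))
      · obtain ⟨c, hc⟩ := hodd
        rw [show q - 1 = 2 * c by omega, show q + 1 = 2 * (c + 1) by omega] at hd
        have hco : Nat.Coprime p 2 := (Nat.coprime_primes h.prime Nat.prime_two).2 h.ne_two
        rcases h.prime.dvd_mul.1 hd with hd | hd
        · have := Nat.le_of_dvd (by omega) (hco.dvd_of_dvd_mul_left hd)
          omega
        · have := Nat.le_of_dvd (by omega) (hco.dvd_of_dvd_mul_left hd)
          omega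
  rcases Nat.lt_or_ge q 11 with hsmall | hbig
  · -- small fields
    have hq : q = 5 ∨ q = 7 ∨ q = 9 := by
      obtain ⟨c, hc⟩ := hodd
      omega
    rcases hq with hq | hq | hq
    · exfalso
      rw [hq] at hPSL
      norm_num at hPSL
      have hG : Nat.card G = 60 := by omega
      have hd : p ∣ 2 ^ 2 * 3 * 5 := by rw [show 2 ^ 2 * 3 * 5 = 60 from rfl, ← hG]; exact h.dvd_card
      have hp : p = 5 := by
        rcases h.prime.dvd_mul.1 hd with h2 | h2
        · rcases h.prime.dvd_mul.1 h2 with h3 | h3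
          · have := Nat.le_of_dvd (by norm_num) (h.prime.dvd_of_dvd_pow h3); omega
          · have := Nat.le_of_dvd (by norm_num) h3; omega
        · exact (Nat.prime_dvd_prime_iff_eq h.prime (by norm_num)).1 h2
      subst hp
      have hH4 : Nat.card H = 4 := by omega
      haveI : Fact (Nat.Prime 2) := ⟨Nat.prime_two⟩
      have hSH : (C.S : Subgroup G) ≤ H := fun k hk => C.fix_α hk
      have hS4 : Nat.card (C.S : Subgroup G) = 4 := by
        have h1 : 2 ^ 2 ∣ Nat.card (C.S : Subgroup G) :=
          C.S.pow_dvd_card_of_pow_dvd_card (by rw [hG]; norm_num)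
        have h2 := Subgroup.card_dvd_of_le hSH
        rw [hH4] at h2
        exact Nat.dvd_antisymm h2 (by simpa using h1)
      have hSeq : (C.S : Subgroup G) = H :=
        Subgroup.eq_of_le_of_card_ge hSH (by rw [hS4, hH4])
      have hcomm : (C.S : Subgroup G) ≤ Subgroup.centralizer ((C.S : Subgroup G) : Set G) := by
        haveI := IsPGroup.isMulCommutative_of_card_eq_prime_sq (p := 2)
          (G := (C.S : Subgroup G)) (by rw [hS4]; norm_num)
        intro x hx
        rw [Subgroup.mem_centralizer_iff]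
        intro y hy
        exact congrArg Subtype.val
          (IsMulCommutative.is_comm.comm (⟨y, hy⟩ : (C.S : Subgroup G)) ⟨x, hx⟩)
      have hne : (C.S : Subgroup G) ≠ ⊥ := fun e => by
        rw [e, Subgroup.card_bot] at hS4; omega
      have hnle := SmallGroups.Sylow.not_normalizer_le_centralizer h.nonabelian C.S hne
      haveI : Nontrivial Ω := ⟨⟨C.α, C.β, C.αβ⟩⟩
      have hco : IsCoatom H := IsPreprimitive.isCoatom_stabilizer_of_isPreprimitive G C.α
      have hlt : H < Subgroup.normalizer ((C.S : Subgroup G) : Set G) := by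
        refine lt_of_le_of_ne (hSeq ▸ Subgroup.le_normalizer) fun e => hnle ?_
        rw [← e, ← hSeq]
        exact hcomm
      have htop := hco.2 _ hlt
      rw [Subgroup.normalizer_eq_top_iff] at htop
      rcases Subgroup.Normal.eq_bot_or_eq_top htop with e | e
      · exact hne e
      · rw [hSeq] at e; exact hco.1 e
    · exfalso
      rw [hq] at hPSL
      norm_num at hPSL
      have hG : Nat.card G = 168 := by omega
      have hd : p ∣ 2 ^ 3 * 3 * 7 := by rw [show 2 ^ 3 * 3 * 7 = 168 from rfl, ← hG]; exact h.dvd_card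
      have hp : p = 7 := by
        rcases h.prime.dvd_mul.1 hd with h2 | h2
        · rcases h.prime.dvd_mul.1 h2 with h3 | h3
          · have := Nat.le_of_dvd (by norm_num) (h.prime.dvd_of_dvd_pow h3); omega
          · have := Nat.le_of_dvd (by norm_num) h3; omega
        · exact (Nat.prime_dvd_prime_iff_eq h.prime (by norm_num)).1 h2
      subst hp
      omega
    · have hG : Nat.card G = 360 := by rw [hq] at hPSL; norm_num at hPSL; omega
      have hd : p ∣ 2 ^ 3 * 3 ^ 2 * 5 := by rw [show 2 ^ 3 * 3 ^ 2 * 5 = 360 from rfl, ← hG]; exact h.dvd_card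
      have hp : p = 5 := by
        rcases h.prime.dvd_mul.1 hd with h2 | h2
        · rcases h.prime.dvd_mul.1 h2 with h3 | h3 <;>
            have := Nat.le_of_dvd (by norm_num) (h.prime.dvd_of_dvd_pow h3) <;> omega
        · exact (Nat.prime_dvd_prime_iff_eq h.prime (by norm_num)).1 h2
      exact ⟨hp, (Linear.SmallIso.nonempty_psl_two_nine hq).map fun i => e.trans i⟩
  exfalso
  have hp2q : 2 * p ≤ q + 1 := by
    rcases hpq with h5 | h5
    · omega
    · exact h5
  have hbound : q * (q - 1) ≤ 3 * Nat.card H := by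
    refine Nat.le_of_mul_le_mul_right (c := q + 1) ?_ (by omega)
    calc q * (q - 1) * (q + 1) = Nat.card H * (3 * p) * 2 := by rw [hHcard, mul_comm _ 2, hPSL]; ring
      _ = 3 * Nat.card H * (2 * p) := by ring
      _ ≤ 3 * Nat.card H * (q + 1) := Nat.mul_le_mul_left _ hp2q
  have hne : H.map e.toMonoidHom ≠ ⊤ := by
    intro ht
    have h1 := Subgroup.card_map_of_injective (K := H) (f := e.toMonoidHom) e.injective
    rw [show H.map e.toMonoidHom = ⊤ from ht, Subgroup.card_top, ← Nat.card_congr e.toEquiv] at h1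
    have h2 : Nat.card G * (3 * p) = Nat.card G * 1 := by rw [mul_one]; conv_rhs => rw [← hHcard, ← h1]
    have := Nat.eq_of_mul_eq_mul_left Nat.card_pos h2
    omega
  have hcard : Nat.card (H.map e.toMonoidHom) = Nat.card H :=
    Subgroup.card_map_of_injective (f := e.toMonoidHom) e.injective
  have hsH : C.s ∈ H := C.sα
  have htH : C.t ∈ H := C.fix_α C.t_mem
  have hst : C.s ≠ C.t := fun hh => C.s_not_mem (hh ▸ C.t_mem_K)
  rcases psl_subgroup hl2 hbig (H.map e.toMonoidHom) hne (a := e C.s) (b := e C.t)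
      (Subgroup.mem_map_of_mem _ hsH) (Subgroup.mem_map_of_mem _ htH)
      (by rw [e.orderOf_eq, C.hs]) (by rw [e.orderOf_eq, C.ht])
      (fun hh => hst (e.injective hh))
      ((show Commute C.s C.t from C.central C.s C.s_mem).map e) (by rw [hcard]; exact hbound)
    with h12 | h12 | h12 <;> rw [hcard] at h12 <;> rw [h12] at hbound hHcard
  · have : 11 * 10 ≤ q * (q - 1) := Nat.mul_le_mul hbig (by omega)
    omega
  · have : 11 * 10 ≤ q * (q - 1) := Nat.mul_le_mul hbig (by omega)
    omega
  · have hq13 : q ≤ 13 := by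
      by_contra hlt
      have : 14 * 13 ≤ q * (q - 1) := Nat.mul_le_mul (by omega) (by omega)
      omega
    obtain ⟨c, hc⟩ := hodd
    have : q = 11 ∨ q = 13 := by omega
    rcases this with hh | hh <;> rw [hh] at hPSL <;> norm_num at hPSL <;> omega

end Cfsg.Agent.Lib.TriplePrime63
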