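import Cfsg.Agent.Lib.TriplePrime63.Quasi
import Cfsg.Agent.Lib.TriplePrime63.Linear
import Cfsg.Agent.Lib.GorensteinWalter.Wiring
import Cfsg.Agent.Lib.BenderOne.Final
import Cfsg.Agent.Lib.BenderSuzuki.Main

/-!
# Simple transitive groups of degree `3p` with `|N(P)| = 2p`
-/

set_option autoImplicit false
set_option linter.unusedSectionVars false
set_option linter.style.haveILetI false

namespace Cfsg.Agent.Lib.TriplePrime63

open MulAction Cfsg.Agent.Lib.Classif
open scoped Pointwise

universe u v

variable {G : Type u} [Group G] [Finite G] {p : ℕ} {P : Sylow p G}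
variable {Ω : Type v} [Fintype Ω] [MulAction G Ω] [IsPretransitive G Ω]

theorem imprimitive_case (h : Hyp p P) (hΩ : Fintype.card Ω = 3 * p)
    (himp : ¬ IsPreprimitive G Ω) :
    ∃ (F : Type) (_ : Field F) (_ : Fintype F) (m : ℕ), Fintype.card F = 2 ^ m ∧ p = 2 ^ m + 1 ∧
      Nonempty (G ≃* Matrix.ProjectiveSpecialLinearGroup (Fin 2) F) := by
  classical
  haveI := h.simple
  haveI : Nonempty Ω := Fintype.card_pos_iff.1 (by have := h.gt_three; omega)
  obtain ⟨B, hB, hBs, hBu⟩ : ∃ B : Set Ω, IsBlock G B ∧ ¬ B.Subsingleton ∧ B ≠ Set.univ := by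
    by_contra hcon
    push Not at hcon
    exact himp ⟨fun {B} hB => or_iff_not_imp_left.2 (fun hn => hcon B hB (Set.not_subsingleton_iff.1 hn))⟩
  have hne : B.Nonempty := by
    rcases B.eq_empty_or_nonempty with e | e
    · exact absurd (e ▸ Set.subsingleton_empty) hBs
    · exact e
  have hmul := hB.ncard_block_mul_ncard_orbit_eq hne
  rw [Nat.card_eq_fintype_card, hΩ] at hmul
  set M := stabilizer G B with hM
  have hidx : M.index = (orbit G B).ncard := index_stabilizer G B
  have hb1 : 2 ≤ B.ncard := by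
    by_contra hlt
    exact hBs (Set.ncard_le_one_iff_subsingleton.1 (by omega))
  have hb2 : B.ncard < 3 * p := by
    rw [← hΩ, ← Nat.card_eq_fintype_card, ← Set.ncard_univ]
    exact Set.ncard_lt_ncard (Set.ssubset_univ_iff.2 hBu) (Set.toFinite _)
  have hMidx : M.index = p := by
    have hd : p ∣ B.ncard * M.index := ⟨3, by rw [hidx, hmul, mul_comm]⟩
    rcases h.prime.dvd_mul.1 hd with ⟨c, hc⟩ | ⟨c, hc⟩
    · exfalso
      have h3 : c * M.index = 3 := by
        refine Nat.eq_of_mul_eq_mul_left h.prime.pos ?_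
        rw [← mul_assoc, ← hc, hidx, hmul, mul_comm]
      have hc3 : c = 1 := by
        rcases (Nat.dvd_prime Nat.prime_three).1 ⟨M.index, h3.symm⟩ with e | e
        · exact e
        · subst e; rw [hc] at hb2; omega
      subst hc3
      rw [one_mul] at h3
      have hMt : M ≠ ⊤ := fun e => by rw [e, Subgroup.index_top] at h3; omega
      have h4 := SmallGroups.Sylow.two_mul_card_dvd_factorial h.nonabelian hMt
      rw [h3] at h4
      have h5 := Nat.le_of_dvd (by decide) (h.dvd_card.trans ((dvd_mul_left _ 2).trans h4))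
      have : Nat.factorial 3 = 6 := rfl
      rw [this] at h5
      have h6 : p = 5 := by
        have := h.gt_three
        rcases Nat.lt_or_ge p 5 with hlt | hge
        · exfalso
          have : p = 4 := by omega
          exact absurd (this ▸ h.prime) (by norm_num)
        · have : p ≠ 6 := fun e => absurd (e ▸ h.prime) (by norm_num)
          omega
      subst h6
      have := h.dvd_card.trans ((dvd_mul_left _ 2).trans h4)
      rw [‹Nat.factorial 3 = 6›] at this
      omega
    · have h3 : B.ncard * c = 3 := by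
        refine Nat.eq_of_mul_eq_mul_left h.prime.pos ?_
        calc p * (B.ncard * c) = B.ncard * (p * c) := by ring
          _ = p * 3 := by rw [← hc, hidx, hmul, mul_comm]
      have hc1 : c = 1 := by
        rcases (Nat.dvd_prime Nat.prime_three).1 ⟨B.ncard, by rw [← h3, mul_comm]⟩ with e | e
        · exact e
        · subst e; omega
      rw [hc, hc1, mul_one]
  have hpM : ¬ p ∣ Nat.card M := by
    intro hd
    apply h.not_sq_dvd
    rw [← Subgroup.card_mul_index M, hMidx, pow_two]
    exact Nat.mul_dvd_mul_right hd p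
  haveI := Fintype.ofFinite (G ⧸ M)
  have hcardM : Fintype.card (G ⧸ M) = 1 * p := by
    rw [← Nat.card_eq_fintype_card, ← Subgroup.index_eq_card, hMidx, one_mul]
  have hone : ∀ u : G, orderOf u = 2 → Nat.card {c : G ⧸ M // u • c = c} = 1 := by
    intro u hu
    obtain ⟨h1, h2⟩ := h.fixed_all (Ω := G ⧸ M) hcardM odd_one hu
    have := h1.pos
    omega
  obtain ⟨u, hu, -⟩ := h.exists_inverting
  have heven : Even (Nat.card M) := by
    obtain ⟨⟨c, hc⟩⟩ := (Nat.card_pos_iff.1 (by rw [hone u hu]; omega :
      0 < Nat.card {c : G ⧸ M // u • c = c})).1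
    induction c using QuotientGroup.induction_on with
    | H g =>
      have hm := Involutions.StronglyEmbedded.smul_coset_eq_iff.1 hc
      rw [even_iff_two_dvd]
      have ho : orderOf (g⁻¹ * u * g) = 2 := by
        have := (MulAut.conj g⁻¹).orderOf_eq u
        rw [MulAut.conj_apply, inv_inv, hu] at this
        exact this
      rw [← ho]
      exact Subgroup.orderOf_dvd_natCard _ hm
  have hne' : M ≠ ⊤ := fun e => by
    rw [e, Subgroup.index_top] at hMidx; exact h.prime.ne_one hMidx.symm
  obtain ⟨-, hF⟩ := h.pslTwo_of_stronglyEmbedded BenderOne.propPartOneFinal BenderSuzuki.propMain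
    ((Involutions.StronglyEmbedded.isStronglyEmbedded_iff_fixed hne' heven).2
      fun t _ ht => hone t ht) hpM
  exact hF

/-- The primitive case, from the Gorenstein–Walter theorem. -/
theorem primitive_case (hGW : GorensteinWalter.PropMain.{u}) (h : Hyp p P)
    (hΩ : Fintype.card Ω = 3 * p) [FaithfulSMul G Ω] [IsPreprimitive G Ω] :
    p = 5 ∧ Nonempty (G ≃* alternatingGroup (Fin 6)) := by
  obtain ⟨C⟩ := exists_cross h BenderOne.propPartOneFinal BenderSuzuki.propMain hΩ
  exact C.eq_alt_six h hΩ (GorensteinWalter.known_of_propMain hGW G h.simple h.nonabelian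
    (C.dihedral h hΩ))

theorem main (hGW : GorensteinWalter.PropMain.{u}) [IsSimpleGroup G] (hG : ¬ IsMulCommutative G)
    (hp : p.Prime) (hp3 : 3 < p) [FaithfulSMul G Ω] (hΩ : Fintype.card Ω = 3 * p)
    (hN : Nat.card ↥(Subgroup.normalizer ((P : Subgroup G) : Set G)) = 2 * p) :
    (IsPreprimitive G Ω → p = 5 ∧ Nonempty (G ≃* alternatingGroup (Fin 6))) ∧
      (¬ IsPreprimitive G Ω →
        ∃ (F : Type) (_ : Field F) (_ : Fintype F) (m : ℕ), Fintype.card F = 2 ^ m ∧
          p = 2 ^ m + 1 ∧ Nonempty (G ≃* Matrix.ProjectiveSpecialLinearGroup (Fin 2) F)) :=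
  have h : Hyp p P := hyp_of (Ω := Ω) hG hp hp3 hΩ hN
  ⟨fun hprim => by haveI := hprim; exact primitive_case (Ω := Ω) hGW h hΩ,
    fun himp => imprimitive_case h hΩ himp⟩

end Cfsg.Agent.Lib.TriplePrime63
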