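import Cfsg.Agent.Lib.TriplePrime63.Sylow

/-!
# Parity of the permutations of the Sylow `2`-subgroup
-/

set_option autoImplicit false
set_option linter.unusedSectionVars false
set_option linter.style.haveILetI false

namespace Cfsg.Agent.Lib.TriplePrime63

open MulAction Cfsg.Agent.Lib.Classif Equiv

universe u v

variable {G : Type u} [Group G] [Finite G] {p : ℕ} {P : Sylow p G}
variable {Ω : Type v} [Fintype Ω] [MulAction G Ω] [IsPretransitive G Ω]

/-- In a simple group every permutation is even. -/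
theorem sign_toPerm [DecidableEq Ω] (h : Hyp p P) (g : G) :
    Equiv.Perm.sign (MulAction.toPermHom G Ω g) = 1 := by
  haveI := h.simple
  rcases SmallGroups.Sylow.injective_or_trivial
    ((Equiv.Perm.sign (α := Ω)).comp (MulAction.toPermHom G Ω)) with hi | ht
  · exact absurd ⟨⟨fun a b => hi (by rw [map_mul, map_mul, mul_comm])⟩⟩ h.nonabelian
  · exact ht g

namespace Cross

variable (C : Cross G Ω) (h : Hyp p P) (hΩ : Fintype.card Ω = 3 * p)
include C h hΩ

/-- An element outside `K` of order `2 ^ e ≥ 4`: the number of its long cycles is odd. -/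
theorem odd_cycles {g : G} (hg : g ∈ (C.S : Subgroup G)) (hgK : g ∉ C.K) {e : ℕ} (he : 2 ≤ e)
    (ho : orderOf g = 2 ^ e) (hd : 2 ^ e ∣ 3 * p - 3) : Odd ((3 * p - 3) / 2 ^ e) := by
  classical
  set T : Set Ω := {C.α, C.β, C.γ} with hT
  have hgβ : g • C.β = C.γ := by
    rcases C.mem_T hg (b := C.β) (by simp) with e' | e' | e'
    · exact absurd (MulAction.injective g (e'.trans (C.fix_α hg).symm)) C.αβ.symm
    · exact absurd ⟨hg, e'⟩ hgK
    · exact e'
  have hgγ : g • C.γ = C.β := by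
    rcases C.mem_T hg (b := C.γ) (by simp) with e' | e' | e'
    · exact absurd (MulAction.injective g (e'.trans (C.fix_α hg).symm)) C.αγ.symm
    · exact e'
    · exact absurd (MulAction.injective g (e'.trans hgβ.symm)) C.βγ.symm
  have hg2 : g ^ 2 ∈ C.K := by
    refine ⟨pow_mem hg 2, ?_⟩
    show g ^ 2 • C.β = C.β
    rw [pow_two, mul_smul, hgβ, hgγ]
  set σ := MulAction.toPermHom G Ω g with hσ
  set τ := Equiv.swap C.β C.γ * σ with hτ
  have hout : ∀ x ∉ T, τ x = g • x ∧ g • x ∉ T := by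
    intro x hx
    have hgx : g • x ∉ T := fun hm => hx (by
      have := C.mem_T (inv_mem hg) hm
      rwa [inv_smul_smul] at this)
    refine ⟨?_, hgx⟩
    rw [hτ, Equiv.Perm.mul_apply, hσ, MulAction.toPermHom_apply, MulAction.toPerm_apply]
    exact Equiv.swap_apply_of_ne_of_ne (fun e' => hgx (by rw [e']; simp [hT]))
      (fun e' => hgx (by rw [e']; simp [hT]))
  have hin : ∀ x ∈ T, τ x = x := by
    intro x hx
    rw [hτ, Equiv.Perm.mul_apply, hσ, MulAction.toPermHom_apply, MulAction.toPerm_apply]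
    rcases hx with rfl | rfl | rfl
    · rw [C.fix_α hg]; exact Equiv.swap_apply_of_ne_of_ne C.αβ C.αγ
    · rw [hgβ]; exact Equiv.swap_apply_right _ _
    · rw [hgγ]; exact Equiv.swap_apply_left _ _
  have hpow : ∀ (i : ℕ), ∀ x ∉ T, (τ ^ i) x = g ^ i • x ∧ g ^ i • x ∉ T := by
    intro i
    induction i with
    | zero => intro x hx; simp [hx]
    | succ i ih =>
      intro x hx
      obtain ⟨h1, h2⟩ := ih x hx
      obtain ⟨h3, h4⟩ := hout _ h2
      rw [pow_succ', pow_succ', Equiv.Perm.mul_apply, h1, h3, mul_smul]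
      exact ⟨rfl, h4⟩
  have hfree : ∀ (i : ℕ), ∀ x ∉ T, g ^ i • x = x → 2 ^ e ∣ i := by
    intro i x hx hfix
    by_contra hndvd
    -- a multiple of `i` congruent to half the order
    obtain ⟨k, hk, hik⟩ : ∃ k, k < e ∧ Nat.gcd i (2 ^ e) = 2 ^ k := by
      obtain ⟨k, hk, hk'⟩ := (Nat.dvd_prime_pow Nat.prime_two).1 (Nat.gcd_dvd_right i (2 ^ e))
      refine ⟨k, lt_of_le_of_ne hk fun e' => hndvd ?_, hk'⟩
      rw [← e', ← hk']
      exact Nat.gcd_dvd_left _ _
    have h1 : g ^ 2 ^ k • x = x := by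
      obtain ⟨m, hm⟩ : ∃ m : ℤ, g ^ (2 ^ k) = (g ^ i) ^ m := by
        refine ⟨Nat.gcdA i (2 ^ e), ?_⟩
        rw [← hik, ← zpow_natCast g (Nat.gcd i (2 ^ e)), Nat.gcd_eq_gcd_ab, zpow_add,
          zpow_mul, zpow_natCast, zpow_mul, zpow_natCast, ← ho, pow_orderOf_eq_one, one_zpow,
          mul_one]
      rw [hm]
      exact (stabilizer G x).zpow_mem hfix m
    have h2 : g ^ 2 ^ (e - 1) • x = x := by
      rw [show e - 1 = k + (e - 1 - k) by omega, pow_add, pow_mul]
      exact (stabilizer G x).pow_mem h1 _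
    have hu : g ^ 2 ^ (e - 1) ∈ C.K := by
      rw [show 2 ^ (e - 1) = 2 * 2 ^ (e - 2) by rw [← pow_succ']; congr 1; omega, pow_mul]
      exact pow_mem hg2 _
    have hu1 : g ^ 2 ^ (e - 1) ≠ 1 := pow_ne_one_of_lt_orderOf (by positivity)
      (by rw [ho]; exact Nat.pow_lt_pow_right (by norm_num) (by omega))
    exact hx (C.free h hΩ hu hu1 h2)
  have hτo : ∀ x, (τ ^ 2 ^ e) x = x := by
    intro x
    by_cases hx : x ∈ T
    · have : ∀ i : ℕ, (τ ^ i) x = x := fun i => by
        induction i with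
        | zero => rfl
        | succ i ih => rw [pow_succ, Equiv.Perm.mul_apply, hin x hx, ih]
      exact this _
    · rw [(hpow _ x hx).1, ← ho, pow_orderOf_eq_one, one_smul]
  have hct : ∀ n ∈ τ.cycleType, n = 2 ^ e := by
    intro n hn
    rw [Equiv.Perm.cycleType_def, Multiset.mem_map] at hn
    obtain ⟨c, hc, rfl⟩ := hn
    rw [Finset.mem_val] at hc
    obtain ⟨hcyc, hcx⟩ := Equiv.Perm.mem_cycleFactorsFinset_iff.1 hc
    obtain ⟨x, hx⟩ : c.support.Nonempty := by
      rw [Finset.nonempty_iff_ne_empty, ne_eq, Equiv.Perm.support_eq_empty_iff]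
      exact hcyc.ne_one
    have hxT : x ∉ T := fun hm => by
      have := Equiv.Perm.mem_cycleFactorsFinset_support_le hc hx
      exact (Equiv.Perm.mem_support.1 this) (hin x hm)
    have hcτ : c = τ.cycleOf x := Equiv.Perm.cycle_is_cycleOf hx hc
    have happ : ∀ i : ℕ, (c ^ i) x = (τ ^ i) x := fun i => by
      rw [hcτ, Equiv.Perm.cycleOf_pow_apply_self]
    show c.support.card = 2 ^ e
    rw [← hcyc.orderOf]
    refine Nat.dvd_antisymm ?_ (hfree _ x hxT ?_)
    · refine orderOf_dvd_of_pow_eq_one ((hcyc.pow_eq_one_iff' (Equiv.Perm.mem_support.1 hx)).2 ?_)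
      rw [happ, hτo]
    · rw [← (hpow _ x hxT).1, ← happ, pow_orderOf_eq_one]
      rfl
  have hrep : τ.cycleType = Multiset.replicate τ.cycleType.card (2 ^ e) :=
    Multiset.eq_replicate_card.2 hct
  have hsign := Equiv.Perm.sign_of_cycleType_eq_replicate (by positivity) hrep
  have heven : ¬ Odd (2 ^ e) := by
    rw [Nat.not_odd_iff_even, Nat.even_pow]
    exact ⟨even_two, by omega⟩
  rw [if_neg heven, hτ, map_mul, Equiv.Perm.sign_swap C.βγ, sign_toPerm h, mul_one] at hsign
  have hfix : Fintype.card (Function.fixedPoints τ) = 3 := by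
    rw [← Nat.card_eq_fintype_card]
    have : Function.fixedPoints τ = T := by
      ext x
      refine ⟨fun hx => ?_, fun hx => hin x hx⟩
      by_contra hxT
      have h1 : g ^ 1 • x = x := by rw [← (hpow 1 x hxT).1, pow_one]; exact hx
      have := Nat.le_of_dvd one_pos (hfree 1 x hxT h1)
      have : 2 ^ 2 ≤ 2 ^ e := Nat.pow_le_pow_right two_pos he
      omega
    rw [Nat.card_coe_set_eq, this, hT]
    exact Set.ncard_eq_three.2 ⟨C.α, C.β, C.γ, C.αβ, C.αγ, C.βγ, rfl⟩
  rw [hΩ, hfix] at hsign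
  rw [← Nat.not_even_iff_odd]
  intro hev
  rw [hev.neg_one_pow] at hsign
  exact absurd hsign (by decide)

/-- The two-part of `p - 1` when the Sylow `2`-subgroups are not dihedral. -/
theorem parity (hnd : ¬ GorensteinWalter.HasDihedralSylow G) :
    ∃ m w : ℕ, 3 ≤ m ∧ Odd w ∧ p - 1 = 2 ^ m * w ∧ Nat.card (C.S : Subgroup G) = 2 ^ (m + 1) := by
  classical
  obtain ⟨x, hx, hcard, h8, htx, hsx, hxs⟩ := (C.dihedral_or h hΩ).resolve_left hnd
  obtain ⟨m, hm⟩ := IsPGroup.iff_orderOf.1 C.S.isPGroup' ⟨x, hx⟩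
  rw [Subgroup.orderOf_mk] at hm
  haveI : Fact (Nat.Prime 2) := ⟨Nat.prime_two⟩
  have hm3 : 3 ≤ m := by
    by_contra hlt
    have : 2 ^ m ≤ 2 ^ 2 := Nat.pow_le_pow_right two_pos (by omega)
    omega
  have hK : Nat.card C.K = 2 ^ m := by
    have := C.card_S
    rw [hcard, hm] at this
    omega
  have hdvd : 2 ^ m ∣ p - 1 := by
    have h1 := C.card_K_dvd h hΩ
    rw [hK] at h1
    exact (Nat.Coprime.pow_left m (by norm_num)).dvd_of_dvd_mul_left h1
  obtain ⟨w, hw⟩ := hdvd
  have h3p : 3 * p - 3 = 3 * (p - 1) := by omega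
  by_cases hxK : x ∈ C.K
  · exfalso
    have hy : x * C.s ∈ (C.S : Subgroup G) := mul_mem hx C.s_mem
    have hyK : x * C.s ∉ C.K := fun hm => C.s_not_mem (by
      have := mul_mem (inv_mem hxK) hm
      rwa [inv_mul_cancel_left] at this)
    have hyo : orderOf (x * C.s) = 2 ^ 2 := by
      have ht1 : C.t ≠ 1 := fun e => by have := C.ht; rw [e, orderOf_one] at this; omega
      refine orderOf_eq_prime_pow (p := 2) (n := 1) ?_ ?_
      · rw [pow_one, pow_two, hxs]; exact ht1
      · rw [show 2 ^ (1 + 1) = 2 * 2 from rfl, pow_mul, pow_two (x * C.s), hxs, pow_two,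
          sq_one_of_orderOf C.ht]
    have h4 : 2 ^ 2 ∣ 3 * p - 3 := by
      rw [h3p, hw]
      exact ((pow_dvd_pow 2 (by omega : 2 ≤ m)).mul_right w).mul_left 3
    have hodd := C.odd_cycles h hΩ hy hyK le_rfl hyo h4
    rw [h3p, hw, show 3 * (2 ^ m * w) = 2 ^ 2 * (2 * (3 * (2 ^ (m - 3) * w))) by
        rw [show 2 ^ m = 2 ^ 3 * 2 ^ (m - 3) by rw [← pow_add]; congr 1; omega]; ring,
      Nat.mul_div_cancel_left _ (by norm_num)] at hodd
    exact Nat.not_even_iff_odd.2 hodd ⟨_, two_mul _⟩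
  · have hodd := C.odd_cycles h hΩ hx hxK (e := m) (by omega) hm
      (by rw [h3p, hw]; exact (dvd_mul_right _ w).mul_left 3)
    rw [h3p, hw, show 3 * (2 ^ m * w) = 2 ^ m * (3 * w) by ring,
      Nat.mul_div_cancel_left _ (by positivity)] at hodd
    exact ⟨m, w, hm3, (Nat.odd_mul.1 hodd).2, hw, by rw [hcard, hm, pow_succ']⟩

end Cross

end Cfsg.Agent.Lib.TriplePrime63
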