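import Cfsg.Agent.Lib.PermTrans.Constituents
import Cfsg.Agent.Lib.Classif.FirstPowerData

/-!
# Rank three actions of degree `3p` with constituents of degrees `2p - 1` and `p`
-/

set_option autoImplicit false
set_option linter.unusedSectionVars false
set_option linter.style.haveILetI false

namespace Cfsg.Agent.Lib.TriplePrime63

open MulAction Module Cfsg.Agent.Lib.Characters Cfsg.Agent.Lib.Characters.Basic
open Cfsg.Agent.Lib.Perm.Modules Cfsg.Agent.Lib.Characters.Transitive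
open Cfsg.Agent.Lib.PermTrans.Constituents
open Cfsg.Agent.Lib.Classif.PrimeExceptional (deg apply_one_eq)

universe u v

/-- The integers of such an action contradict a triangle fixed by a semiregular group of
order divisible by eight. -/
theorem srg_arith {p k r s : ℤ} (hp : 5 ≤ p) (h8 : (8 : ℤ) ∣ p - 1) (hk : k < 3 * p - 1)
    (hk2 : (8 : ℤ) ∣ k - 2) (hl : (8 : ℤ) ∣ k + r * s + r + s - 1)
    (htr : k + (2 * p - 1) * r + p * s = 0)
    (hsq : k ^ 2 - k * (r + s) - 3 * p * k - (3 * p - 1) * (r * s) = 0) : False := by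
  obtain ⟨j, rfl⟩ : ∃ j : ℤ, r = k - j * p := ⟨-(2 * r + s), by linear_combination -htr⟩
  have hs : s = (2 * p - 1) * j - 2 * k := by
    refine mul_left_cancel₀ (a := p) (by omega) ?_
    linear_combination htr
  subst hs
  have hE : 6 * k ^ 2 - 6 * j * (2 * p - 1) * k + j ^ 2 * ((2 * p - 1) * (3 * p - 1)) - 3 * k = 0 := by
    refine mul_left_cancel₀ (a := p) (by omega) ?_
    rw [mul_zero]
    linear_combination hsq
  -- the discriminant
  have hdisc : 0 ≤ -12 * (2 * p - 1) * j ^ 2 + 36 * (2 * p - 1) * j + 9 := by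
    nlinarith [sq_nonneg (12 * k - 6 * j * (2 * p - 1) - 3)]
  have hj : 0 ≤ j ∧ j ≤ 3 := by
    constructor
    · by_contra hn
      nlinarith [mul_nonneg (show 0 ≤ -j - 1 by omega) (show (0 : ℤ) ≤ 2 * p - 1 by omega)]
    · by_contra hn
      nlinarith [mul_nonneg (show 0 ≤ j - 4 by omega) (show (0 : ℤ) ≤ 2 * p - 1 by omega)]
  obtain ⟨P', hP'⟩ := h8
  obtain ⟨K', hK'⟩ := hk2
  obtain rfl : p = 1 + 8 * P' := by omega
  obtain rfl : k = 2 + 8 * K' := by omega
  obtain ⟨hj0, hj3⟩ := hj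
  interval_cases j
  · ring_nf at hl; omega
  · ring_nf at hl; omega
  · ring_nf at hl; omega
  · have h0 : 3 * ((2 + 8 * K') - (3 * (1 + 8 * P') - 1)) *
        (2 * (2 + 8 * K') - (6 * (1 + 8 * P') - 3)) = 0 := by linear_combination hE
    rcases mul_eq_zero.1 h0 with h | h
    · omega
    · omega

variable {G : Type u} [Group G] [Fintype G] {Ω : Type v} [Fintype Ω] [MulAction G Ω]

theorem kernelMap_mul (c d : Ω → Ω → ℂ) :
    (kernelMap c * kernelMap d : Module.End ℂ (Ω → ℂ)) =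
      kernelMap fun x y => ∑ z, d x z * c z y := by
  refine LinearMap.ext fun f => funext fun y => ?_
  change ∑ z, c z y * ∑ x, d x z * f x = ∑ x, (∑ z, d x z * c z y) * f x
  simp only [Finset.mul_sum, Finset.sum_mul]
  rw [Finset.sum_comm]
  exact Finset.sum_congr rfl fun x _ => Finset.sum_congr rfl fun z _ => by ring

theorem trace_kernelMap (c : Ω → Ω → ℂ) :
    LinearMap.trace ℂ (Ω → ℂ) (kernelMap c) = ∑ x, c x x := by
  classical
  rw [LinearMap.trace_eq_matrix_trace ℂ (Pi.basisFun ℂ Ω), Matrix.trace]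
  refine Finset.sum_congr rfl fun x _ => ?_
  rw [Matrix.diag_apply, LinearMap.toMatrix_apply, Pi.basisFun_apply, Pi.basisFun_repr,
    kernelMap_single]

/-- The rank of an invariant projection of a permutation module is a sum over constituents. -/
theorem exists_mult [Fintype (Cfsg.IrrCharacter G)] (k : Cfsg.IrrCharacter G → ℕ)
    (hk : ∀ φ : Cfsg.IrrCharacter G, Cfsg.classInner (permChar Ω) (φ : G → ℂ) = k φ)
    (E : Module.End ℂ (Ω → ℂ)) (hE : E * E = E)
    (hc : ∀ g, Commute E (Cfsg.permRep ℂ G Ω g)) :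
    ∃ m : Cfsg.IrrCharacter G → ℕ, (∀ φ, m φ ≤ k φ) ∧
      LinearMap.trace ℂ (Ω → ℂ) E = ∑ φ, (m φ : ℂ) * (deg φ : ℂ) := by
  set ρ := Cfsg.permRep ℂ G Ω with hρ
  let W : Subrepresentation ρ := ⟨LinearMap.range E, fun g v hv => by
    obtain ⟨w, rfl⟩ := hv
    exact ⟨ρ g w, LinearMap.congr_fun (hc g).eq w⟩⟩
  have hproj : LinearMap.IsProj (LinearMap.range E) E :=
    ⟨fun x => LinearMap.mem_range_self E x, fun x hx => by
      obtain ⟨y, rfl⟩ := hx
      exact LinearMap.congr_fun hE y⟩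
  obtain ⟨q, hq⟩ := exists_compl ρ W
  choose m hm using fun φ => classInner_char_nat W.toRepresentation φ
  refine ⟨m, fun φ => ?_, ?_⟩
  · obtain ⟨b, hb⟩ := classInner_char_nat q.toRepresentation φ
    have h1 := classInner_split ρ W q hq (φ : G → ℂ)
    rw [show ρ.character = (permChar Ω : G → ℂ) from character_permRep, hm, hb] at h1
    have h2 : (k φ : ℂ) = (m φ : ℂ) + (b : ℂ) := (hk φ).symm.trans h1
    have h3 : k φ = m φ + b := by exact_mod_cast h2
    omega
  · rw [hproj.trace]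
    have h1 := congrFun (Complete.classFunction_eq_sum
      (isClassFunction_character W.toRepresentation)) 1
    rw [Representation.char_one, Finset.sum_apply] at h1
    rw [show finrank ℂ (LinearMap.range E) = finrank ℂ W.toSubmodule from rfl, h1]
    exact Finset.sum_congr rfl fun φ _ => by rw [Pi.smul_apply, smul_eq_mul, hm, apply_one_eq]

/-- The eigenvalues of a rank three graph of degree `3p` with constituents of degrees
`2p - 1` and `p`. -/
theorem srg_eqs [DecidableEq Ω] [Fintype (Cfsg.IrrCharacter G)] (R : Ω → Ω → Prop)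
    [DecidableRel R] {p : ℕ} (hp : 5 ≤ p) (hΩ : Fintype.card Ω = 3 * p)
    (hinv : ∀ (g : G) x y, R (g • x) (g • y) ↔ R x y) (hsymm : ∀ x y, R x y → R y x)
    (hirr : ∀ x, ¬ R x x) {k lam mu : ℕ} (hk0 : 0 < k) (hk : k + 1 < 3 * p)
    (hlam : lam + 1 ≤ k) (hmu : mu ≤ k)
    (hnbr : ∀ x, (Finset.univ.filter fun z => R x z).card = k)
    (hadj : ∀ x y, R x y → (Finset.univ.filter fun z => R x z ∧ R z y).card = lam)
    (hnon : ∀ x y, x ≠ y → ¬ R x y → (Finset.univ.filter fun z => R x z ∧ R z y).card = mu)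
    (χ ψ : Cfsg.IrrCharacter G) (hχ : deg χ = 2 * (p : ℤ) - 1) (hψ : deg ψ = p)
    (kk : Cfsg.IrrCharacter G → ℕ)
    (hkk : ∀ φ : Cfsg.IrrCharacter G, Cfsg.classInner (permChar Ω) (φ : G → ℂ) = kk φ)
    (hsupp : ∀ φ, φ ≠ oneChar G → φ ≠ χ → φ ≠ ψ → kk φ = 0) (hle : ∀ φ, kk φ ≤ 1)
    (hd1 : χ ≠ oneChar G) (hd2 : ψ ≠ oneChar G) (hd3 : χ ≠ ψ) :
    ∃ r s : ℤ, (k : ℤ) + (2 * p - 1) * r + p * s = 0 ∧ (lam : ℤ) = mu + r + s ∧
      (mu : ℤ) = k + r * s ∧
      (k : ℤ) * k = ((k : ℤ) - mu) + ((lam : ℤ) - mu) * k + 3 * p * mu := by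
  classical
  set R1 : Ω → Ω → ℂ := fun x y => if R x y then 1 else 0 with hR1
  set A : Module.End ℂ (Ω → ℂ) := kernelMap R1 with hA
  set J : Module.End ℂ (Ω → ℂ) := kernelMap (fun _ _ => (1 : ℂ)) with hJ
  have hI : (1 : Module.End ℂ (Ω → ℂ)) = kernelMap fun x y => if x = y then (1 : ℂ) else 0 := by
    refine LinearMap.ext fun f => funext fun y => ?_
    change f y = ∑ x, (if x = y then (1 : ℂ) else 0) * f x
    simp
  have hrow : ∀ x, ∑ z, R1 x z = (k : ℂ) := fun x => by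
    simp only [hR1, Finset.sum_boole, hnbr]
  have hcol : ∀ y, ∑ z, R1 z y = (k : ℂ) := fun y => by
    rw [← hrow y]
    refine Finset.sum_congr rfl fun z _ => ?_
    simp only [hR1]
    exact if_congr ⟨hsymm z y, hsymm y z⟩ rfl rfl
  have hsum3 : ∀ y : Ω, ∑ x, (if x = y then (1 : ℂ) else 0) = 1 := fun y => by simp
  have hA2 : ∀ x y, ∑ z, R1 x z * R1 z y =
      ((k : ℂ) - mu) * (if x = y then 1 else 0) + ((lam : ℂ) - mu) * R1 x y + (mu : ℂ) := by
    intro x y
    have e : ∀ z, R1 x z * R1 z y = if R x z ∧ R z y then (1 : ℂ) else 0 := fun z => by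
      simp only [hR1]
      by_cases h1 : R x z <;> by_cases h2 : R z y <;> simp [h1, h2]
    rw [Finset.sum_congr rfl fun z _ => e z, Finset.sum_boole]
    by_cases hxy : x = y
    · subst hxy
      have : (Finset.univ.filter fun z => R x z ∧ R z x) = Finset.univ.filter fun z => R x z :=
        Finset.filter_congr fun z _ => ⟨fun h => h.1, fun h => ⟨h, hsymm _ _ h⟩⟩
      rw [this, hnbr, if_pos rfl, show R1 x x = 0 from if_neg (hirr x)]
      ring
    · rw [if_neg hxy]
      by_cases hr : R x y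
      · rw [hadj x y hr, show R1 x y = 1 from if_pos hr]; ring
      · rw [hnon x y hxy hr, show R1 x y = 0 from if_neg hr]; ring
  -- evaluating at the constant function
  have hsq : (k : ℂ) * k = ((k : ℂ) - mu) + ((lam : ℂ) - mu) * k + 3 * p * mu := by
    obtain ⟨y⟩ : Nonempty Ω := Fintype.card_pos_iff.1 (by omega)
    have h1 : ∑ x, ∑ z, R1 x z * R1 z y = (k : ℂ) * k := by
      rw [Finset.sum_comm]
      simp only [← Finset.sum_mul]
      rw [Finset.sum_congr rfl fun z _ => by rw [hcol z]]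
      rw [← Finset.mul_sum, hcol y]
    rw [Finset.sum_congr rfl fun x _ => hA2 x y, Finset.sum_add_distrib, Finset.sum_add_distrib,
      ← Finset.mul_sum, ← Finset.mul_sum, hsum3 y, hcol y, Finset.sum_const,
      Finset.card_univ, hΩ, nsmul_eq_mul] at h1
    rw [← h1]; push_cast; ring
  have hAA : A * A = ((k : ℂ) - mu) • (1 : Module.End ℂ (Ω → ℂ)) +
      ((lam : ℂ) - mu) • A + (mu : ℂ) • J := by
    rw [hA, kernelMap_mul, hI, hJ]
    refine LinearMap.ext fun f => funext fun y => ?_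
    change ∑ x, (∑ z, R1 x z * R1 z y) * f x = ((k : ℂ) - mu) * (∑ x, (if x = y then (1 : ℂ) else 0) * f x)
      + ((lam : ℂ) - mu) * (∑ x, R1 x y * f x) + (mu : ℂ) * ∑ x, (1 : ℂ) * f x
    simp only [Finset.mul_sum, ← Finset.sum_add_distrib]
    exact Finset.sum_congr rfl fun x _ => by rw [hA2]; ring
  have hAJ : A * J = (k : ℂ) • J := by
    rw [hA, hJ, kernelMap_mul]
    refine LinearMap.ext fun f => funext fun y => ?_
    change ∑ x, (∑ z, (1 : ℂ) * R1 z y) * f x = (k : ℂ) * ∑ x, (1 : ℂ) * f x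
    simp only [one_mul, hcol, Finset.mul_sum]
  have hJA : J * A = (k : ℂ) • J := by
    rw [hA, hJ, kernelMap_mul]
    refine LinearMap.ext fun f => funext fun y => ?_
    change ∑ x, (∑ z, R1 x z * (1 : ℂ)) * f x = (k : ℂ) * ∑ x, (1 : ℂ) * f x
    simp only [mul_one, one_mul, hrow, Finset.mul_sum]
  have hJJ : J * J = (3 * p : ℂ) • J := by
    rw [hJ, kernelMap_mul]
    refine LinearMap.ext fun f => funext fun y => ?_
    change ∑ x, (∑ _z : Ω, (1 : ℂ) * 1) * f x = (3 * p : ℂ) * ∑ x, (1 : ℂ) * f x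
    simp [hΩ, Finset.mul_sum]
  have hcA : ∀ g, Commute A (Cfsg.permRep ℂ G Ω g) := fun g => LinearMap.ext fun v =>
    kernelMap_comm (c := R1) (fun g x y => by simp only [hR1, hinv]) g v
  have hcJ : ∀ g, Commute J (Cfsg.permRep ℂ G Ω g) := fun g => LinearMap.ext fun v =>
    kernelMap_comm (c := fun _ _ => (1 : ℂ)) (fun g x y => rfl) g v
  have htA : LinearMap.trace ℂ (Ω → ℂ) A = 0 := by
    rw [hA, trace_kernelMap]
    exact Finset.sum_eq_zero fun x _ => if_neg (hirr x)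
  have htJ : LinearMap.trace ℂ (Ω → ℂ) J = (3 * p : ℂ) := by
    rw [hJ, trace_kernelMap, Finset.sum_const, Finset.card_univ, hΩ, nsmul_one]
    push_cast; rfl
  have htI : LinearMap.trace ℂ (Ω → ℂ) 1 = (3 * p : ℂ) := by
    rw [LinearMap.trace_one, Module.finrank_fintype_fun_eq_card, hΩ]; push_cast; rfl
  -- the eigenvalues
  obtain ⟨D, hD⟩ := IsAlgClosed.exists_pow_nat_eq
    (((lam : ℂ) - mu) ^ 2 + 4 * ((k : ℂ) - mu)) two_pos
  have hD0 : D ≠ 0 := by
    intro h0
    rw [h0, zero_pow two_ne_zero] at hD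
    have h' : ((lam : ℤ) - mu) ^ 2 + 4 * ((k : ℤ) - mu) = 0 := by exact_mod_cast hD.symm
    have h1 : (lam : ℤ) - mu = 0 := by nlinarith [sq_nonneg ((lam : ℤ) - mu)]
    rw [h1] at h'
    omega
  have hp0 : (p : ℂ) ≠ 0 := Nat.cast_ne_zero.2 (by omega)
  have hmult : ∀ r s : ℂ, r + s = (lam : ℂ) - mu → r * s = (mu : ℂ) - k → r ≠ s →
      ∃ a b c : ℕ, a ≤ 1 ∧ b ≤ 1 ∧ c ≤ 1 ∧
        (r - s) * ((a : ℂ) + (b : ℂ) * (2 * p - 1) + (c : ℂ) * p) =
          -(k : ℂ) - (3 * p - 1) * s := by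
    intro r s hsum hprod hne
    have hd : r - s ≠ 0 := sub_ne_zero.2 hne
    set c := ((k : ℂ) - s) / (3 * p) with hc
    have hc3 : c * (3 * p) = (k : ℂ) - s := div_mul_cancel₀ _ (mul_ne_zero (by norm_num) hp0)
    set B : Module.End ℂ (Ω → ℂ) := A - s • 1 - c • J with hB
    have hBB : B * B = (r - s) • B := by
      have e1 : B * B = A * A - (2 * s) • A + (s * s) • (1 : Module.End ℂ (Ω → ℂ)) -
          c • (A * J) - c • (J * A) + (2 * s * c) • J + (c * c) • (J * J) := by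
        simp only [hB, sub_mul, mul_sub, smul_mul_assoc, mul_smul_comm, smul_sub, smul_smul,
          one_mul, mul_one]
        module
      rw [e1, hAA, hAJ, hJA, hJJ, hB]
      match_scalars
      · linear_combination hprod
      · linear_combination -hsum
      · refine mul_right_cancel₀ (b := (3 * p : ℂ)) (mul_ne_zero (by norm_num) hp0) ?_
        linear_combination (r - s - 2 * k + 2 * s + c * (3 * p) + ((k : ℂ) - s)) * hc3 - hsq +
          (k : ℂ) * hsum - hprod
    set E := (r - s)⁻¹ • B with hE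
    have hEE : E * E = E := by
      rw [hE, smul_mul_assoc, mul_smul_comm, hBB, smul_smul, smul_smul, mul_assoc,
        inv_mul_cancel₀ hd, mul_one]
    have hEc : ∀ g, Commute E (Cfsg.permRep ℂ G Ω g) := fun g =>
      ((((hcA g).sub_left ((Commute.one_left _).smul_left s)).sub_left ((hcJ g).smul_left c))).smul_left _
    obtain ⟨m, hm, htr⟩ := exists_mult kk hkk E hEE hEc
    refine ⟨m (oneChar G), m χ, m ψ, (hm _).trans (hle _), (hm _).trans (hle _),
      (hm _).trans (hle _), ?_⟩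
    have hsumm : ∑ φ, (m φ : ℂ) * (deg φ : ℂ) =
        (m (oneChar G) : ℂ) + (m χ : ℂ) * (2 * p - 1) + (m ψ : ℂ) * p := by
      rw [← Finset.sum_subset (s₁ := {oneChar G, χ, ψ}) (Finset.subset_univ _) fun φ _ hφ => ?_]
      · rw [Finset.sum_insert (by simp [Ne.symm hd1, Ne.symm hd2]),
          Finset.sum_insert (by simp [hd3]), Finset.sum_singleton,
          Classif.PrimeExceptional.deg_oneChar, hχ, hψ]
        push_cast; ring
      · simp only [Finset.mem_insert, Finset.mem_singleton, not_or] at hφ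
        have := hm φ
        rw [hsupp φ hφ.1 hφ.2.1 hφ.2.2] at this
        rw [Nat.le_zero.1 this, Nat.cast_zero, zero_mul]
    rw [← hsumm, ← htr, hE, map_smul, smul_eq_mul, ← mul_assoc, mul_inv_cancel₀ hd, one_mul, hB,
      map_sub, map_sub, map_smul, map_smul, htA, htI, htJ, smul_eq_mul, smul_eq_mul, hc3]
    ring
  -- the integer form
  have hZ : (k : ℤ) * k = ((k : ℤ) - mu) + ((lam : ℤ) - mu) * k + 3 * p * mu := by
    have : (((k : ℤ) * k : ℤ) : ℂ) =
        ((((k : ℤ) - mu) + ((lam : ℤ) - mu) * k + 3 * p * mu : ℤ) : ℂ) := by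
      push_cast; exact hsq
    exact_mod_cast this
  set r₀ := (((lam : ℂ) - mu) + D) / 2 with hr₀
  set s₀ := (((lam : ℂ) - mu) - D) / 2 with hs₀
  have hsum₀ : r₀ + s₀ = (lam : ℂ) - mu := by rw [hr₀, hs₀]; ring
  have hprod₀ : r₀ * s₀ = (mu : ℂ) - k := by
    rw [hr₀, hs₀]; linear_combination -(1 / 4 : ℂ) * hD
  have hne₀ : r₀ ≠ s₀ := fun e => hD0 (by rw [hr₀, hs₀] at e; linear_combination e)
  obtain ⟨a, b, c, ha, hb, hc, h1⟩ := hmult r₀ s₀ hsum₀ hprod₀ hne₀
  obtain ⟨a', b', c', ha', hb', hc', h2⟩ :=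
    hmult s₀ r₀ (by rw [add_comm]; exact hsum₀) (by rw [mul_comm]; exact hprod₀) (Ne.symm hne₀)
  have htot : ((a + a' : ℕ) : ℤ) + ((b + b' : ℕ) : ℤ) * (2 * p - 1) + ((c + c' : ℕ) : ℤ) * p =
      3 * p - 1 := by
    have : ((a + a' : ℕ) : ℂ) + ((b + b' : ℕ) : ℂ) * (2 * p - 1) + ((c + c' : ℕ) : ℂ) * p =
        3 * p - 1 := by
      refine mul_left_cancel₀ (sub_ne_zero.2 hne₀) ?_
      push_cast
      linear_combination h1 - h2
    exact_mod_cast this
  have hint : ∀ r : ℂ, r ^ 2 - ((lam : ℂ) - mu) * r - ((k : ℂ) - mu) = 0 → IsIntegral ℤ r := by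
    intro r hr
    refine ⟨Polynomial.X ^ 2 - (Polynomial.C ((lam : ℤ) - mu) * Polynomial.X +
      Polynomial.C ((k : ℤ) - mu)), Polynomial.monic_X_pow_sub ?_, ?_⟩
    · refine lt_of_le_of_lt (Polynomial.degree_linear_le) ?_
      norm_num
    · rw [Polynomial.eval₂_sub, Polynomial.eval₂_add, Polynomial.eval₂_mul, Polynomial.eval₂_pow,
        Polynomial.eval₂_X, Polynomial.eval₂_C, Polynomial.eval₂_C]
      push_cast [algebraMap_int_eq, eq_intCast]
      linear_combination hr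
  have hroot : ∀ r s : ℂ, r + s = (lam : ℂ) - mu → r * s = (mu : ℂ) - k →
      r ^ 2 - ((lam : ℂ) - mu) * r - ((k : ℂ) - mu) = 0 := fun r s h1 h2 => by
    linear_combination r * h1 - h2
  -- a multiplicity zero forces an integer root `-k / (3p - 1)`
  have hzero : ∀ r s : ℂ, r + s = (lam : ℂ) - mu → r * s = (mu : ℂ) - k →
      (r - s) * 0 = -(k : ℂ) - (3 * p - 1) * s → False := by
    intro r s hs hp' h0
    have hi := hint s (hroot s r (by rw [add_comm]; exact hs) (by rw [mul_comm]; exact hp'))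
    have he : s = ((-(k : ℤ) : ℤ) : ℂ) / ((3 * p - 1 : ℕ) : ℂ) := by
      rw [eq_div_iff (Nat.cast_ne_zero.2 (by omega))]
      push_cast [Nat.cast_sub (show 1 ≤ 3 * p by omega)]
      linear_combination h0
    rw [he] at hi
    have hd := Classif.FirstPowerData.int_dvd_of_isIntegral (by omega) hi
    rw [dvd_neg, Int.natCast_dvd_natCast] at hd
    have := Nat.le_of_dvd hk0 hd
    omega
  -- the multiplicities are `2p - 1` and `p`
  have hfinal : ∀ r s : ℂ, r + s = (lam : ℂ) - mu → r * s = (mu : ℂ) - k →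
      (r - s) * (2 * p - 1) = -(k : ℂ) - (3 * p - 1) * s →
      ∃ r s : ℤ, (k : ℤ) + (2 * p - 1) * r + p * s = 0 ∧ (lam : ℤ) = mu + r + s ∧
        (mu : ℤ) = k + r * s ∧
        (k : ℤ) * k = ((k : ℤ) - mu) + ((lam : ℤ) - mu) * k + 3 * p * mu := by
    intro r s hs hp' h0
    have he : r = ((-(k : ℤ) - p * ((lam : ℤ) - mu) : ℤ) : ℂ) / ((p - 1 : ℕ) : ℂ) := by
      rw [eq_div_iff (Nat.cast_ne_zero.2 (by omega))]
      push_cast [Nat.cast_sub (show 1 ≤ p by omega)]
      linear_combination h0 - (p : ℂ) * hs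
    have hi := hint r (hroot r s hs hp')
    rw [he] at hi
    obtain ⟨r', hr'⟩ := Classif.FirstPowerData.int_dvd_of_isIntegral (by omega) hi
    have hrr : r = (r' : ℂ) := by
      rw [he, hr', div_eq_iff (Nat.cast_ne_zero.2 (by omega))]
      push_cast; ring
    refine ⟨r', (lam : ℤ) - mu - r', ?_, by ring, ?_, hZ⟩
    · have : ((((k : ℤ) + (2 * p - 1) * r' + p * ((lam : ℤ) - mu - r')) : ℤ) : ℂ) = ((0 : ℤ) : ℂ) := by
        push_cast
        rw [← hrr]
        linear_combination h0 - (p : ℂ) * hs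
      exact_mod_cast this
    · have : ((mu : ℤ) : ℂ) = ((((k : ℤ) + r' * ((lam : ℤ) - mu - r')) : ℤ) : ℂ) := by
        push_cast
        rw [← hrr]
        linear_combination -hp' + r * hs
      exact_mod_cast this
  have hcases : (a = 0 ∧ b = 0 ∧ c = 0) ∨ (a' = 0 ∧ b' = 0 ∧ c' = 0) ∨
      (a = 0 ∧ b = 1 ∧ c = 0) ∨ (a' = 0 ∧ b' = 1 ∧ c' = 0) := by
    interval_cases a <;> interval_cases b <;> interval_cases c <;> interval_cases a' <;>
      interval_cases b' <;> interval_cases c' <;> norm_num at htot ⊢ <;> omega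
  rcases hcases with ⟨rfl, rfl, rfl⟩ | ⟨rfl, rfl, rfl⟩ | ⟨rfl, rfl, rfl⟩ | ⟨rfl, rfl, rfl⟩
  · exact (hzero r₀ s₀ hsum₀ hprod₀ (by simpa using h1)).elim
  · exact (hzero s₀ r₀ (by rw [add_comm]; exact hsum₀) (by rw [mul_comm]; exact hprod₀)
      (by simpa using h2)).elim
  · exact hfinal r₀ s₀ hsum₀ hprod₀ (by simpa using h1)
  · exact hfinal s₀ r₀ (by rw [add_comm]; exact hsum₀) (by rw [mul_comm]; exact hprod₀)
      (by simpa using h2)

end Cfsg.Agent.Lib.TriplePrime63
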