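import Cfsg.Agent.Lib.TriplePrime63.Parity
import Cfsg.Agent.Lib.TriplePrime63.RankThree

/-!
# The Sylow `2`-subgroups are dihedral
-/

set_option autoImplicit false
set_option linter.unusedSectionVars false
set_option linter.style.haveILetI false

namespace Cfsg.Agent.Lib.TriplePrime63

open MulAction Cfsg.Agent.Lib.Classif Cfsg.Agent.Lib.Characters Cfsg.Agent.Lib.Characters.Basic
open Cfsg.Agent.Lib.Characters.Transitive Cfsg.Agent.Lib.Induced.Basic
open Cfsg.Agent.Lib.Classif.PrimeExceptional (deg apply_one_eq two_le_deg deg_oneChar)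

universe u v

variable {G : Type u} [Group G] [Finite G] {p : ℕ} {P : Sylow p G}
variable {Ω : Type v} [Fintype Ω] [MulAction G Ω] [IsPretransitive G Ω]

theorem two_adic {n w : ℕ} {a b : ℤ} (ha : ¬ (2 : ℤ) ∣ a) (hb : ¬ (2 : ℤ) ∣ b)
    (h : (2 : ℤ) ^ n * a = 2 ^ w * b) : n = w := by
  rcases lt_trichotomy n w with hlt | e | hlt
  · exfalso
    obtain ⟨d, rfl⟩ := Nat.exists_eq_add_of_lt hlt
    refine ha ⟨2 ^ d * b, mul_left_cancel₀ (pow_ne_zero n two_ne_zero) ?_⟩
    linear_combination h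
  · exact e
  · exfalso
    obtain ⟨d, rfl⟩ := Nat.exists_eq_add_of_lt hlt
    refine hb ⟨2 ^ d * a, mul_left_cancel₀ (pow_ne_zero w two_ne_zero) ?_⟩
    linear_combination -h

theorem not_two_dvd_of_odd {a : ℕ} (h : ¬ 2 ∣ a) : ¬ (2 : ℤ) ∣ (a : ℤ) := fun hd =>
  h (by exact_mod_cast hd)

/-- Split a non-zero integer into a power of two and an odd part. -/
theorem exists_two_adic {x : ℤ} (hx : x ≠ 0) : ∃ (v : ℕ) (y : ℤ), ¬ (2 : ℤ) ∣ y ∧ x = 2 ^ v * y := by
  obtain ⟨v, y, hy, h⟩ := Nat.exists_eq_pow_mul_and_not_dvd (n := x.natAbs)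
    (Int.natAbs_ne_zero.2 hx) 2 (by norm_num)
  rcases Int.natAbs_eq x with e | e
  · exact ⟨v, y, not_two_dvd_of_odd hy, by rw [e, h]; push_cast; ring⟩
  · exact ⟨v, -(y : ℤ), fun hd => not_two_dvd_of_odd hy (dvd_neg.1 hd), by rw [e, h]; push_cast; ring⟩

namespace Cross

variable (C : Cross G Ω) (h : Hyp p P) (hΩ : Fintype.card Ω = 3 * p)
include C h hΩ

/-- A set of points outside `T` invariant under `K` has order divisible by `|K|`. -/
theorem card_dvd_of_inv (U : Finset Ω) (hU : ∀ g ∈ C.K, ∀ x ∈ U, g • x ∈ U)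
    (hout : ∀ x ∈ U, x ∉ ({C.α, C.β, C.γ} : Set Ω)) : Nat.card C.K ∣ U.card := by
  classical
  let U' : SubMulAction C.K Ω := ⟨(U : Set Ω), fun g x hx => hU g.1 g.2 x hx⟩
  haveI := Fintype.ofFinite C.K
  haveI : Fintype U' := Fintype.ofFinite _
  haveI := Fintype.ofFinite (orbitRel.Quotient C.K U')
  have hB := sum_card_fixedBy_eq_card_orbits_mul_card_group C.K U'
  rw [Finset.sum_eq_single_of_mem (1 : C.K) (Finset.mem_univ _) fun g _ hg => ?_] at hB
  · have h1 : Fintype.card (fixedBy U' (1 : C.K)) = U.card := by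
      have e : fixedBy U' (1 : C.K) = Set.univ := Set.eq_univ_of_forall fun x => one_smul C.K x
      rw [← Nat.card_eq_fintype_card, Nat.card_coe_set_eq, e, Set.ncard_univ]
      show Nat.card ((U : Set Ω)) = U.card
      rw [Nat.card_coe_set_eq, Set.ncard_coe_finset]
    rw [h1, ← Nat.card_eq_fintype_card (α := C.K)] at hB
    exact hB ▸ dvd_mul_left _ _
  · rw [Fintype.card_eq_zero_iff]
    refine ⟨fun x => hout x.1.1 x.1.2 (C.free h hΩ g.2 (fun e => hg (Subtype.ext e)) ?_)⟩
    exact congrArg Subtype.val x.2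

set_option maxHeartbeats 800000 in
/-- The rank three case. -/
theorem rank_three_false [Fintype G] [Fintype (Cfsg.IrrCharacter G)] (hp17 : 8 ∣ p - 1)
    (hK8 : 8 ∣ Nat.card C.K) (χ ψ : Cfsg.IrrCharacter G) (hdχ : deg χ = 2 * (p : ℤ) - 1)
    (hdψ : deg ψ = (p : ℤ)) (k : Cfsg.IrrCharacter G → ℕ)
    (hk : ∀ φ : Cfsg.IrrCharacter G, Cfsg.classInner (permChar Ω) (φ : G → ℂ) = k φ)
    (hdec : ∀ g : G, permChar Ω g = ∑ φ, (k φ : ℂ) * (φ : G → ℂ) g)
    (h1 : k (oneChar G) = 1) (hkχ : k χ = 1) (hkψ : k ψ = 1)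
    (hsupp : ∀ φ, φ ≠ oneChar G → φ ≠ χ → φ ≠ ψ → k φ = 0) (hle : ∀ φ, k φ ≤ 1)
    (hd1 : χ ≠ oneChar G) (hd2 : ψ ≠ oneChar G) (hd3 : χ ≠ ψ) : False := by
  classical
  haveI : Nonempty Ω := ⟨C.α⟩
  have hp5 : 5 ≤ p := by
    have := h.gt_three
    rcases Nat.lt_or_ge p 5 with hlt | hge
    · exfalso
      have : p = 4 := by omega
      exact absurd (this ▸ h.prime) (by norm_num)
    · exact hge
  -- three orbits on pairs
  have hπ : (permChar Ω : G → ℂ) = (oneChar G : G → ℂ) + (χ : G → ℂ) + (ψ : G → ℂ) := by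
    funext g
    rw [hdec g, ← Finset.sum_subset (s₁ := {oneChar G, χ, ψ}) (Finset.subset_univ _)
      fun φ _ hφ => ?_]
    · rw [Finset.sum_insert (by simp [Ne.symm hd1, Ne.symm hd2]),
        Finset.sum_insert (by simp [hd3]), Finset.sum_singleton, h1, hkχ, hkψ]
      simp only [Nat.cast_one, one_mul, Pi.add_apply]
      ring
    · simp only [Finset.mem_insert, Finset.mem_singleton, not_or] at hφ
      rw [hsupp φ hφ.1 hφ.2.1 hφ.2.2, Nat.cast_zero, zero_mul]
  have horb : Nat.card (orbitRel.Quotient G (Ω × Ω)) = 3 := by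
    have h3 := classInner_permChar (G := G) Ω
    conv_lhs at h3 => arg 2; rw [hπ]
    rw [classInner_add_right, classInner_add_right, hk, hk, hk, h1, hkχ, hkψ] at h3
    norm_num at h3
    rw [Nat.card_eq_fintype_card]; exact_mod_cast h3.symm
  set R : Ω → Ω → Prop := fun x y => (x, y) ∈ orbit G (C.α, C.β) with hR
  have hinv : ∀ (g : G) x y, R (g • x) (g • y) ↔ R x y := by
    intro g x y
    exact ⟨fun hh => by
      have := mem_orbit_of_mem_orbit g⁻¹ hh
      simpa [hR] using this, fun hh => mem_orbit_of_mem_orbit g hh⟩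
  have hirr : ∀ x, ¬ R x x := by
    rintro x ⟨g, hg⟩
    exact C.αβ (MulAction.injective g
      ((congrArg Prod.fst hg).trans (congrArg Prod.snd hg).symm))
  set N : Ω → Finset Ω := fun x => Finset.univ.filter fun z => R x z with hN
  have hnbr : ∀ x, (N x).card = (N C.α).card := by
    intro x
    obtain ⟨g, rfl⟩ := exists_smul_eq G C.α x
    refine (Finset.card_bij (fun z _ => g • z) (fun z hz => ?_) (fun z _ z' _ e => MulAction.injective g e)
      fun z hz => ⟨g⁻¹ • z, ?_, smul_inv_smul g z⟩).symm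
    · simp only [hN, Finset.mem_filter, Finset.mem_univ, true_and] at hz ⊢
      exact (hinv g _ _).2 hz
    · simp only [hN, Finset.mem_filter, Finset.mem_univ, true_and] at hz ⊢
      rw [← hinv g, smul_inv_smul]; exact hz
  set T : Finset Ω := {C.α, C.β, C.γ} with hT
  have hTiff : ∀ x, x ∈ T ↔ x ∈ ({C.α, C.β, C.γ} : Set Ω) := fun x => by simp [hT]
  have hout8 : ∀ x ∈ T, 8 ∣ (N x \ T).card := by
    intro x hx
    refine hK8.trans (C.card_dvd_of_inv h hΩ _ (fun g hg z hz => ?_) fun z hz => ?_)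
    · simp only [hN, Finset.mem_sdiff, Finset.mem_filter, Finset.mem_univ, true_and] at hz ⊢
      refine ⟨?_, fun hm => hz.2 ?_⟩
      · rw [← C.fixes_T hg ((hTiff x).1 hx)]; exact (hinv g _ _).2 hz.1
      · rw [hTiff] at hm ⊢
        have e := C.fixes_T (inv_mem hg) hm
        rw [inv_smul_smul] at e
        rw [e]; exact hm
    · rw [← hTiff]; exact (Finset.mem_sdiff.1 hz).2
  have hRαβ : R C.α C.β := mem_orbit_self _
  have hRαγ : R C.α C.γ := by
    have := (hinv C.s C.α C.β).2 hRαβ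
    rwa [C.sα, C.sβ] at this
  have hTN : ∀ x, (N x).card = (N x \ T).card + (T.filter fun z => R x z).card := by
    intro x
    rw [← Finset.card_sdiff_add_card_inter (N x) T]
    congr 2
    ext z
    simp [hN, and_comm]
  have hfα : (T.filter fun z => R C.α z).card = 2 := by
    have : (T.filter fun z => R C.α z) = {C.β, C.γ} := by
      ext z
      simp only [hT, Finset.mem_filter, Finset.mem_insert, Finset.mem_singleton]
      constructor
      · rintro ⟨rfl | rfl | rfl, hr⟩
        · exact absurd hr (hirr _)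
        · exact Or.inl rfl
        · exact Or.inr rfl
      · rintro (rfl | rfl)
        · exact ⟨Or.inr (Or.inl rfl), hRαβ⟩
        · exact ⟨Or.inr (Or.inr rfl), hRαγ⟩
    rw [this, Finset.card_pair C.βγ]
  have htwo : ∀ x ∈ T, ∀ y ∈ T, x ≠ y → R x y := by
    intro x hx y hy hxy
    have hle2 : (T.filter fun z => R x z).card ≤ 2 := by
      have h3 : T.card ≤ 3 := Finset.card_le_three
      have hsub : (T.filter fun z => R x z) ⊆ T.erase x := fun z hz => by
        obtain ⟨hzT, hr⟩ := Finset.mem_filter.1 hz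
        exact Finset.mem_erase.2 ⟨fun e => hirr x (by rw [e] at hr; exact hr), hzT⟩
      have := Finset.card_le_card hsub
      rw [Finset.card_erase_of_mem hx] at this
      omega
    obtain ⟨a1, ha1⟩ := hout8 C.α (by simp [hT])
    obtain ⟨a2, ha2⟩ := hout8 x hx
    have e1 := hTN C.α
    have e2 := hTN x
    rw [hnbr x] at e2
    have heq : (T.filter fun z => R x z).card = 2 := by omega
    have hfull : (T.filter fun z => R x z) = T.erase x := by
      refine Finset.eq_of_subset_of_card_le (fun z hz => ?_) ?_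
      · obtain ⟨hzT, hr⟩ := Finset.mem_filter.1 hz
        exact Finset.mem_erase.2 ⟨fun e => hirr x (by rw [e] at hr; exact hr), hzT⟩
      · rw [Finset.card_erase_of_mem hx, heq]
        have h3 : T.card ≤ 3 := Finset.card_le_three
        omega
    exact (Finset.mem_filter.1 (hfull ▸ Finset.mem_erase.2 ⟨Ne.symm hxy, hy⟩)).2
  have hsymm : ∀ x y, R x y → R y x := by
    rintro x y ⟨g, hg⟩
    have hx : g • C.α = x := congrArg Prod.fst hg
    have hy : g • C.β = y := congrArg Prod.snd hg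
    rw [← hx, ← hy, hinv]
    exact htwo C.β (by simp [hT]) C.α (by simp [hT]) C.αβ.symm
  -- a non-adjacent pair
  set q0 : orbitRel.Quotient G (Ω × Ω) := Quotient.mk'' (C.α, C.α) with hq0
  set q1 : orbitRel.Quotient G (Ω × Ω) := Quotient.mk'' (C.α, C.β) with hq1
  have hcls : ∀ x y : Ω, (Quotient.mk'' (x, y) : orbitRel.Quotient G (Ω × Ω)) = q0 ↔ x = y := by
    intro x y
    rw [hq0, Quotient.eq'']
    constructor
    · rintro ⟨g, hg⟩
      exact (congrArg Prod.fst hg).symm.trans (congrArg Prod.snd hg)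
    · rintro rfl
      obtain ⟨g, hg⟩ := exists_smul_eq G C.α x
      exact ⟨g, Prod.ext hg hg⟩
  have hcls1 : ∀ x y : Ω, (Quotient.mk'' (x, y) : orbitRel.Quotient G (Ω × Ω)) = q1 ↔ R x y := by
    intro x y
    rw [hq1, Quotient.eq'']
    rfl
  have hq01 : q0 ≠ q1 := fun e => C.αβ ((hcls C.α C.β).1 e.symm)
  haveI := Fintype.ofFinite (orbitRel.Quotient G (Ω × Ω))
  have hothers : ((Finset.univ.erase q0).erase q1).card = 1 := by
    rw [Finset.card_erase_of_mem (Finset.mem_erase.2 ⟨Ne.symm hq01, Finset.mem_univ _⟩),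
      Finset.card_erase_of_mem (Finset.mem_univ _), Finset.card_univ, ← Nat.card_eq_fintype_card,
      horb]
  obtain ⟨q2, hq2⟩ := Finset.card_eq_one.1 hothers
  have hnon2 : ∀ x y : Ω, x ≠ y → ¬ R x y →
      (Quotient.mk'' (x, y) : orbitRel.Quotient G (Ω × Ω)) = q2 := fun x y hxy hr => by
    have : (Quotient.mk'' (x, y) : orbitRel.Quotient G (Ω × Ω)) ∈ (Finset.univ.erase q0).erase q1 :=
      Finset.mem_erase.2 ⟨fun e => hr ((hcls1 x y).1 e),
        Finset.mem_erase.2 ⟨fun e => hxy ((hcls x y).1 e), Finset.mem_univ _⟩⟩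
    rw [hq2] at this
    exact Finset.mem_singleton.1 this
  obtain ⟨⟨x0, y0⟩, hxy0⟩ := Quotient.mk''_surjective q2
  have hq2' : q2 ∈ (Finset.univ.erase q0).erase q1 := by rw [hq2]; exact Finset.mem_singleton_self _
  have hx0y0 : x0 ≠ y0 ∧ ¬ R x0 y0 := by
    obtain ⟨e1, e2⟩ := Finset.mem_erase.1 hq2'
    rw [← hxy0] at e1 e2
    exact ⟨fun e => (Finset.mem_erase.1 e2).1 ((hcls x0 y0).2 e), fun e => e1 ((hcls1 x0 y0).2 e)⟩
  set cnt : Ω → Ω → ℕ := fun x y => (Finset.univ.filter fun z => R x z ∧ R z y).card with hcnt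
  have hcinv : ∀ x y x' y', (x', y') ∈ orbit G (x, y) → cnt x' y' = cnt x y := by
    rintro x y x' y' ⟨g, hg⟩
    have hx : g • x = x' := congrArg Prod.fst hg
    have hy : g • y = y' := congrArg Prod.snd hg
    subst hx hy
    refine (Finset.card_bij (fun z _ => g • z) (fun z hz => ?_) (fun z _ z' _ e => MulAction.injective g e)
      fun z hz => ⟨g⁻¹ • z, ?_, smul_inv_smul g z⟩).symm
    · simp only [Finset.mem_filter, Finset.mem_univ, true_and] at hz ⊢
      exact ⟨(hinv g _ _).2 hz.1, (hinv g _ _).2 hz.2⟩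
    · simp only [Finset.mem_filter, Finset.mem_univ, true_and] at hz ⊢
      rw [← hinv g x, ← hinv g _ y, smul_inv_smul]; exact hz
  have hNle : (N C.α).card + 1 < 3 * p := by
    obtain ⟨g, hg⟩ := exists_smul_eq G x0 C.α
    have hz : g • y0 ∉ insert C.α (N C.α) := by
      simp only [Finset.mem_insert, hN, Finset.mem_filter, Finset.mem_univ, true_and, not_or]
      refine ⟨fun e => hx0y0.1 (MulAction.injective g (hg.trans e.symm)), fun e => hx0y0.2 ?_⟩
      rw [← hinv g, hg]; exact e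
    have := Finset.card_lt_card (Finset.ssubset_univ_iff.2 fun e => hz (e ▸ Finset.mem_univ _) :
      insert C.α (N C.α) ⊂ Finset.univ)
    rw [Finset.card_insert_of_notMem (by simp [hN, hirr]), Finset.card_univ, hΩ] at this
    omega
  have hlamk : cnt C.α C.β + 1 ≤ (N C.α).card := by
    refine Nat.succ_le_of_lt (Finset.card_lt_card ⟨fun z hz => ?_, fun hsub => ?_⟩)
    · simp only [Finset.mem_filter, Finset.mem_univ, true_and] at hz
      simp [hN, hz.1]
    · have := hsub (show C.β ∈ N C.α by simp [hN, hRαβ])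
      simp only [Finset.mem_filter, Finset.mem_univ, true_and] at this
      exact hirr _ this.2
  have hmuk : cnt x0 y0 ≤ (N C.α).card := by
    rw [← hnbr x0]
    exact Finset.card_le_card fun z hz => by
      simp only [Finset.mem_filter, Finset.mem_univ, true_and] at hz
      simp [hN, hz.1]
  obtain ⟨r, s, htr, hl, hmu, hconst⟩ := srg_eqs R hp5 hΩ hinv hsymm hirr
    (k := (N C.α).card) (lam := cnt C.α C.β) (mu := cnt x0 y0)
    (Finset.card_pos.2 ⟨C.β, by simp [hN, hRαβ]⟩) hNle hlamk hmuk hnbr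
    (fun x y hxy => hcinv C.α C.β x y hxy)
    (fun x y hxy hr => hcinv x0 y0 x y (by
      have e := hnon2 x y hxy hr
      rw [← hxy0, Quotient.eq''] at e
      exact e))
    χ ψ hdχ hdψ k hk hsupp hle hd1 hd2 hd3
  -- congruences modulo eight
  obtain ⟨a1, ha1⟩ := hout8 C.α (by simp [hT])
  have e1 := hTN C.α
  have hlam8 : 8 ∣ cnt C.α C.β - 1 ∧ 1 ≤ cnt C.α C.β := by
    have hsplit2 : (Finset.univ.filter fun z => R C.α z ∧ R z C.β) =
        insert C.γ ((Finset.univ.filter fun z => R C.α z ∧ R z C.β) \ T) := by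
      ext z
      simp only [Finset.mem_insert, Finset.mem_sdiff, Finset.mem_filter, Finset.mem_univ, true_and]
      constructor
      · intro hz
        by_cases hzT : z ∈ T
        · left
          simp only [hT, Finset.mem_insert, Finset.mem_singleton] at hzT
          rcases hzT with e | e | e
          · exact absurd hz.1 (e ▸ hirr _)
          · exact absurd hz.2 (e ▸ hirr _)
          · exact e
        · exact Or.inr ⟨hz, hzT⟩
      · rintro (rfl | ⟨hz, -⟩)
        · exact ⟨hRαγ, htwo _ (by simp [hT]) _ (by simp [hT]) C.βγ.symm⟩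
        · exact hz
    have h8 : 8 ∣ ((Finset.univ.filter fun z => R C.α z ∧ R z C.β) \ T).card := by
      refine hK8.trans (C.card_dvd_of_inv h hΩ _ (fun g hg z hz => ?_) fun z hz => ?_)
      · simp only [Finset.mem_sdiff, Finset.mem_filter, Finset.mem_univ, true_and] at hz ⊢
        refine ⟨⟨?_, ?_⟩, fun hm => hz.2 ?_⟩
        · rw [← C.fixes_T hg (b := C.α) (by simp)]; exact (hinv g _ _).2 hz.1.1
        · rw [← C.fixes_T hg (b := C.β) (by simp)]; exact (hinv g _ _).2 hz.1.2
        · rw [hTiff] at hm ⊢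
          have e := C.fixes_T (inv_mem hg) hm
          rw [inv_smul_smul] at e
          rw [e]; exact hm
      · rw [← hTiff]; exact (Finset.mem_sdiff.1 hz).2
    have hval : cnt C.α C.β =
        ((Finset.univ.filter fun z => R C.α z ∧ R z C.β) \ T).card + 1 := by
      conv_lhs => rw [hcnt]
      simp only
      conv_lhs => rw [hsplit2]
      rw [Finset.card_insert_of_notMem (by simp [hT])]
    exact ⟨by rw [hval, Nat.add_sub_cancel]; exact h8, by omega⟩
  have hp8 : (8 : ℤ) ∣ (p : ℤ) - 1 := by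
    obtain ⟨d, hd⟩ := hp17
    exact ⟨d, by omega⟩
  obtain ⟨l', hl'⟩ := hlam8.1
  refine srg_arith (p := (p : ℤ)) (k := ((N C.α).card : ℤ)) (r := r) (s := s) (by omega) hp8
    (by omega) ⟨(a1 : ℤ), by omega⟩ ⟨(l' : ℤ), by omega⟩ htr ?_
  rw [hl, hmu] at hconst
  linear_combination hconst

set_option maxHeartbeats 800000 in
/-- Without dihedral Sylow `2`-subgroups there is no such configuration. -/
theorem dihedral : GorensteinWalter.HasDihedralSylow G := by
  classical
  by_contra hnd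
  haveI : Fact (Nat.Prime 2) := ⟨Nat.prime_two⟩
  haveI := h.simple
  haveI := Fintype.ofFinite G
  haveI := Fintype.ofFinite (Cfsg.IrrCharacter G)
  haveI : Nonempty Ω := ⟨C.α⟩
  obtain ⟨m, w, hm, hw, hpw, hS⟩ := C.parity h hΩ hnd
  have h2m : 2 ^ 3 ∣ 2 ^ m := pow_dvd_pow 2 hm
  have hp17 : 8 ∣ p - 1 := hpw ▸ h2m.mul_right w
  have hp9 : 9 ≤ p := by
    have := h.gt_three
    have := Nat.le_of_dvd (by omega) hp17
    omega
  obtain ⟨F⟩ := h.exists_fam
  obtain ⟨k, hk, h1, hdec, hdeg, hrel⟩ := F.perm (Ω := Ω) h (Dvd.intro_left 3 hΩ.symm)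
  have hdpos : ∀ φ : Cfsg.IrrCharacter G, 1 ≤ deg φ := fun φ => by
    by_cases e : φ = oneChar G
    · rw [e, deg_oneChar]
    · have := two_le_deg (SmallGroups.Sylow.commutator_eq_top h.nonabelian) φ e
      omega
  -- the principal constituents
  set rest := (Finset.univ : Finset (Cfsg.IrrCharacter G)) \ insert (oneChar G) (insert F.χ F.fam)
    with hrest
  have hsplit : (Fintype.card Ω : ℤ) = 1 + (k F.χ : ℤ) * deg F.χ +
      ∑ θ' ∈ F.fam, (k θ' : ℤ) * deg θ' + ∑ φ ∈ rest, (k φ : ℤ) * deg φ := by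
    rw [hdeg, hrest, ← Finset.sum_sdiff (Finset.subset_univ (insert (oneChar G) (insert F.χ F.fam))),
      Finset.sum_insert (by simp [F.one_not_mem, Ne.symm F.χ_ne_one]),
      Finset.sum_insert F.χ_not_mem, h1, deg_oneChar]
    push_cast; ring
  have hrest_nn : ∀ φ ∈ rest, (0 : ℤ) ≤ (k φ : ℤ) * deg φ := fun φ _ => by
    have := hdpos φ; positivity
  have hrest_dvd : ∀ φ ∈ rest, (p : ℤ) ∣ deg φ := by
    intro φ hφ
    simp only [hrest, Finset.mem_sdiff, Finset.mem_univ, true_and, Finset.mem_insert, not_or] at hφ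
    exact F.other φ hφ.1 hφ.2.1 hφ.2.2
  have hsum0 : 0 ≤ ∑ φ ∈ rest, (k φ : ℤ) * deg φ := Finset.sum_nonneg hrest_nn
  have hθk : ∀ θ' ∈ F.fam, k θ' = k F.θ := by
    intro θ' hθ'
    have e1 := hrel θ' hθ'
    have e2 := hrel F.θ F.θ_mem
    rcases F.ε_unit with e | e <;> rw [e] at e1 e2 <;> omega
  have hfamsum : ∑ θ' ∈ F.fam, (k θ' : ℤ) * deg θ' =
      (F.fam.card : ℤ) * ((k F.θ : ℤ) * (deg F.χ + F.ε)) := by
    rw [Finset.sum_congr rfl fun θ' hθ' => by rw [hθk θ' hθ', F.fam_deg θ' hθ'],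
      Finset.sum_const, nsmul_eq_mul]
  have hfc : 2 * (F.fam.card : ℤ) + 1 = p := by exact_mod_cast F.fam_card
  have hΩ' : (Fintype.card Ω : ℤ) = 3 * p := by exact_mod_cast hΩ
  obtain ⟨c, hc⟩ := F.cong
  have hp9' : (9 : ℤ) ≤ p := by exact_mod_cast hp9
  have hbase := hrel F.θ F.θ_mem
  have hε : F.ε = -1 := by
    rcases F.ε_unit with e | e
    · exfalso
      rw [e] at hbase
      have hkθ : (1 : ℤ) ≤ k F.θ := by omega
      have hχp : (p : ℤ) + 1 ≤ deg F.χ := by
        have h2 := F.two_le.1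
        rw [e] at hc
        have : (1 : ℤ) ≤ c := by
          by_contra hlt
          nlinarith
        nlinarith
      have hχnn : (0 : ℤ) ≤ (k F.χ : ℤ) * deg F.χ := by
        have := F.two_le.1; positivity
      rw [hfamsum, e] at hsplit
      nlinarith [mul_le_mul hkθ (show (p : ℤ) + 2 ≤ deg F.χ + 1 by linarith) (by linarith) (by linarith)]
    · exact e
  rw [hε] at hbase hc hfamsum
  have hkθ : k F.θ = 0 := by
    by_contra hne
    have h1' : (1 : ℤ) ≤ k F.θ := by omega
    have h2' : (2 : ℤ) ≤ k F.χ := by omega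
    have hχp : (p : ℤ) - 1 ≤ deg F.χ := by
      have h2 := F.two_le.1
      have : (1 : ℤ) ≤ c := by
        by_contra hlt
        nlinarith
      nlinarith
    rw [hfamsum] at hsplit
    nlinarith [mul_le_mul h1' (show (p : ℤ) - 2 ≤ deg F.χ + -1 by linarith) (by linarith) (by linarith),
      mul_le_mul h2' hχp (by linarith) (by linarith)]
  have hkχ : k F.χ = 1 := by
    rw [hkθ] at hbase; omega
  rw [hfamsum, hkθ, hkχ, hΩ'] at hsplit
  have hrestval : ∑ φ ∈ rest, (k φ : ℤ) * deg φ = 3 * p - 1 - deg F.χ := by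
    simp only [Nat.cast_zero, Nat.cast_one, zero_mul, mul_zero, one_mul, add_zero] at hsplit
    linarith
  have hχlow : 2 ≤ deg F.χ := F.two_le.1
  have hc13 : c = 1 ∨ c = 2 ∨ c = 3 := by
    have h1' : 1 ≤ c := by
      by_contra hlt
      nlinarith
    have h3' : c ≤ 3 := by
      by_contra hlt
      nlinarith
    omega
  -- the class formula
  obtain ⟨a, ha, hform⟩ := F.formula h C.ht
  have hG2 : ∃ g' : ℤ, ¬ (2 : ℤ) ∣ g' ∧ (Nat.card G : ℤ) = 2 ^ (m + 1) * g' := by
    refine ⟨((C.S : Subgroup G).index : ℤ), not_two_dvd_of_odd C.S.not_dvd_index, ?_⟩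
    rw [← Subgroup.card_mul_index (C.S : Subgroup G), hS]; push_cast; ring
  have hc2 : ∃ c' : ℤ, ¬ (2 : ℤ) ∣ c' ∧
      (Nat.card (Subgroup.centralizer ({C.t} : Set G)) : ℤ) = 2 ^ (m + 1) * c' := by
    set Z := Subgroup.centralizer ({C.t} : Set G) with hZ
    have hle : (C.S : Subgroup G) ≤ Z := fun g hg =>
      Subgroup.mem_centralizer_singleton_iff.2 (C.central g hg)
    refine ⟨((C.S : Subgroup G).relIndex Z : ℤ), not_two_dvd_of_odd (fun hd =>
      C.S.not_dvd_index (hd.trans (Subgroup.relIndex_dvd_index_of_le hle))), ?_⟩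
    have := Subgroup.relIndex_mul_relIndex ⊥ (C.S : Subgroup G) Z bot_le hle
    rw [Subgroup.relIndex_bot_left, Subgroup.relIndex_bot_left, hS] at this
    rw [← this]; push_cast; ring
  obtain ⟨g', hg', hGe⟩ := hG2
  obtain ⟨c', hc', hce⟩ := hc2
  rw [hGe, hce, hε] at hform
  have hpodd : ¬ (2 : ℤ) ∣ (p : ℤ) := not_two_dvd_of_odd fun hd =>
    h.ne_two ((Nat.prime_dvd_prime_iff_eq Nat.prime_two h.prime).1 hd).symm
  have hpr : Prime (2 : ℤ) := Int.prime_two
  have hwo : ¬ (2 : ℤ) ∣ (w : ℤ) := not_two_dvd_of_odd fun hd =>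
    Nat.not_even_iff_odd.2 hw (even_iff_two_dvd.2 hd)
  have hpwz : (p : ℤ) - 1 = 2 ^ m * w := by
    have : ((p - 1 : ℕ) : ℤ) = ((2 ^ m * w : ℕ) : ℤ) := by rw [hpw]
    rw [Nat.cast_sub h.prime.one_le] at this
    exact_mod_cast this
  rcases hc13 with rfl | rfl | rfl
  · -- degree `p - 1`
    have hdχ : deg F.χ = 2 ^ m * w := by rw [← hpwz]; linarith
    rw [hdχ] at hform
    have hne : (2 ^ m * w : ℤ) - a ≠ 0 := by
      intro e
      apply FirstPowerKills.apply_ne_deg h.nonabelian F.χ F.χ_ne_one (g := C.t)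
        (fun e' => by have := C.ht; rw [e', orderOf_one] at this; omega)
      rw [ha, hdχ]
      exact_mod_cast (sub_eq_zero.1 e).symm
    obtain ⟨v, y, hy, hxy⟩ := exists_two_adic hne
    rw [hxy] at hform
    have hθodd : ¬ (2 : ℤ) ∣ (2 ^ m * w + -1 : ℤ) := by
      intro hd
      have h2 : (2 : ℤ) ∣ 2 ^ m * w := (dvd_pow_self 2 (by omega : m ≠ 0)).mul_right _
      exact absurd ((dvd_add_right h2).1 hd) (by norm_num)
    have := two_adic (n := m + 1 + 2 * v) (w := 2 * (m + 1) + m)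
      (a := g' * y ^ 2) (b := (p : ℤ) * c' ^ 2 * w * (2 ^ m * w + -1))
      (fun hd => (hpr.dvd_or_dvd hd).elim hg' fun hd' => hy (hpr.dvd_of_dvd_pow hd'))
      (fun hd => by
        rcases hpr.dvd_or_dvd hd with hd | hd
        · rcases hpr.dvd_or_dvd hd with hd | hd
          · rcases hpr.dvd_or_dvd hd with hd | hd
            · exact hpodd hd
            · exact hc' (hpr.dvd_of_dvd_pow hd)
          · exact hwo hd
        · exact hθodd hd)
      (by simp only [pow_add, pow_mul'] at hform ⊢; linear_combination hform)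
    omega
  · -- degree `2p - 1`: rank three
    have hdχ : deg F.χ = 2 * (p : ℤ) - 1 := by linarith
    rw [hdχ, show (3 : ℤ) * p - 1 - (2 * p - 1) = p by ring] at hrestval
    obtain ⟨ψ, hψ, hψ0⟩ : ∃ ψ ∈ rest, (k ψ : ℤ) * deg ψ ≠ 0 := by
      by_contra hcon
      push Not at hcon
      rw [Finset.sum_eq_zero hcon] at hrestval
      omega
    have hψle : (k ψ : ℤ) * deg ψ ≤ p :=
      hrestval ▸ Finset.single_le_sum hrest_nn hψ
    have hψp : (p : ℤ) ≤ deg ψ := Int.le_of_dvd (by have := hdpos ψ; omega) (hrest_dvd ψ hψ)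
    have hkψ0 : k ψ ≠ 0 := fun e => hψ0 (by rw [e, Nat.cast_zero, zero_mul])
    have hkψ : k ψ = 1 := by
      by_contra hne
      have : (2 : ℤ) ≤ k ψ := by omega
      nlinarith
    have hdψ : deg ψ = (p : ℤ) := by
      rw [hkψ, Nat.cast_one, one_mul] at hψle; omega
    have hzero : ∀ φ ∈ rest, φ ≠ ψ → k φ = 0 := by
      intro φ hφ hne
      have h2 : ∑ x ∈ ({φ, ψ} : Finset _), (k x : ℤ) * deg x ≤ p :=
        hrestval ▸ Finset.sum_le_sum_of_subset_of_nonneg
          (by intro x hx; simp at hx; rcases hx with rfl | rfl <;> assumption)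
          (fun x hx _ => hrest_nn x hx)
      rw [Finset.sum_pair hne, hkψ, hdψ, Nat.cast_one, one_mul] at h2
      have := hdpos φ
      by_contra hk0
      have : (1 : ℤ) ≤ k φ := by omega
      nlinarith
    simp only [hrest, Finset.mem_sdiff, Finset.mem_univ, true_and, Finset.mem_insert, not_or] at hψ
    have hsupp : ∀ φ, φ ≠ oneChar G → φ ≠ F.χ → φ ≠ ψ → k φ = 0 := by
      intro φ e1 e2 e3
      by_cases hf : φ ∈ F.fam
      · rw [hθk φ hf, hkθ]
      · exact hzero φ (by simp [hrest, e1, e2, hf]) e3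
    have hle : ∀ φ, k φ ≤ 1 := by
      intro φ
      by_cases e1 : φ = oneChar G
      · rw [e1, h1]
      by_cases e2 : φ = F.χ
      · rw [e2, hkχ]
      by_cases e3 : φ = ψ
      · rw [e3, hkψ]
      rw [hsupp φ e1 e2 e3]; exact Nat.zero_le _
    have hK8 : 8 ∣ Nat.card C.K := by
      have := C.card_S
      rw [hS, pow_succ'] at this
      rw [← Nat.eq_of_mul_eq_mul_left two_pos this]
      exact h2m
    exact C.rank_three_false h hΩ hp17 hK8 F.χ ψ hdχ hdψ k hk hdec h1 hkχ hkψ hsupp hle F.χ_ne_one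
      hψ.1 (Ne.symm hψ.2.1)
  · -- degree `3p - 1`: doubly transitive
    have hdχ : deg F.χ = 3 * (p : ℤ) - 1 := by linarith
    rw [hdχ, sub_self] at hrestval
    have hzero : ∀ φ ∈ rest, k φ = 0 := by
      intro φ hφ
      have := (Finset.sum_eq_zero_iff_of_nonneg hrest_nn).1 hrestval φ hφ
      rcases mul_eq_zero.1 this with e | e
      · exact_mod_cast e
      · have := hdpos φ; omega
    have hπt : permChar Ω C.t = 1 + (F.χ : G → ℂ) C.t := by
      rw [hdec C.t, ← Finset.sum_subset (s₁ := {oneChar G, F.χ}) (Finset.subset_univ _)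
        fun φ _ hφ => ?_]
      · rw [Finset.sum_pair (Ne.symm F.χ_ne_one), h1, hkχ, oneChar_apply]; push_cast; ring
      · simp only [Finset.mem_insert, Finset.mem_singleton, not_or] at hφ
        by_cases hf : φ ∈ F.fam
        · rw [hθk φ hf, hkθ, Nat.cast_zero, zero_mul]
        · rw [hzero φ (by simp [hrest, hφ.1, hφ.2, hf]), Nat.cast_zero, zero_mul]
    have ha2 : a = 2 := by
      simp only [permChar, Nat.card_coe_set_eq, C.fixed_card h hΩ C.ht, ha] at hπt
      have : ((3 : ℕ) : ℤ) = 1 + a := by exact_mod_cast hπt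
      omega
    rw [ha2, hdχ] at hform
    have hb1 : ¬ (2 : ℤ) ∣ (3 * (2 ^ (m - 1) * w) + 1) := by
      intro hd
      have h2 : (2 : ℤ) ∣ 3 * (2 ^ (m - 1) * w) :=
        ((dvd_pow_self 2 (by omega : m - 1 ≠ 0)).mul_right _).mul_left 3
      exact absurd ((dvd_add_right h2).1 hd) (by norm_num)
    have hb2 : ¬ (2 : ℤ) ∣ (3 * (p : ℤ) - 1 + -1) := by
      intro hd; apply hpodd; omega
    have hhalf : (3 : ℤ) * p - 1 = 2 * (3 * (2 ^ (m - 1) * w) + 1) := by
      have e : (2 : ℤ) ^ m = 2 * 2 ^ (m - 1) := by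
        rw [← pow_succ']; congr 1; omega
      rw [e] at hpwz
      linear_combination 3 * hpwz
    have h3 : (3 : ℤ) * p - 1 - 2 = 3 * (2 ^ m * w) := by linear_combination 3 * hpwz
    rw [h3] at hform
    have := two_adic (n := m + 1 + 2 * m) (w := 2 * (m + 1) + 1)
      (a := g' * 9 * (w : ℤ) ^ 2)
      (b := (p : ℤ) * c' ^ 2 * (3 * (2 ^ (m - 1) * w) + 1) * (3 * (p : ℤ) - 1 + -1))
      (fun hd => by
        rcases hpr.dvd_or_dvd hd with hd | hd
        · rcases hpr.dvd_or_dvd hd with hd | hd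
          · exact hg' hd
          · norm_num at hd
        · exact hwo (hpr.dvd_of_dvd_pow hd))
      (fun hd => by
        rcases hpr.dvd_or_dvd hd with hd | hd
        · rcases hpr.dvd_or_dvd hd with hd | hd
          · rcases hpr.dvd_or_dvd hd with hd | hd
            · exact hpodd hd
            · exact hc' (hpr.dvd_of_dvd_pow hd)
          · exact hb1 hd
        · exact hb2 hd)
      (by
        simp only [pow_add, pow_mul'] at hform ⊢
        linear_combination hform +
          ((p : ℤ) * ((2 : ℤ) ^ m * 2 ^ 1) ^ 2 * c' ^ 2 * (3 * (p : ℤ) - 1 + -1)) * hhalf)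
    omega

end Cross

end Cfsg.Agent.Lib.TriplePrime63
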