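import Cfsg.Agent.Lib.Classif.FixedSylow
import Cfsg.Agent.Lib.SmallGroups.Sylow

/-!
# Simple groups with a Sylow subgroup of prime order whose normaliser has order `2p`
-/

set_option autoImplicit false
set_option linter.unusedSectionVars false

namespace Cfsg.Agent.Lib.TriplePrime63

open MulAction Cfsg.Agent.Lib.Classif

universe u v

/-- `P` is self-centralising of prime order `p` and has normaliser of order `2p`. -/
structure Hyp {G : Type u} [Group G] (p : ℕ) (P : Sylow p G) : Prop where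
  prime : p.Prime
  gt_three : 3 < p
  simple : IsSimpleGroup G
  nonabelian : ¬ IsMulCommutative G
  card : Nat.card (P : Subgroup G) = p
  self : Subgroup.centralizer ((P : Subgroup G) : Set G) = P
  norm : Nat.card (Subgroup.normalizer ((P : Subgroup G) : Set G)) = 2 * p

variable {G : Type u} [Group G] [Finite G] {p : ℕ} {P : Sylow p G}

/-- A `p`-group acting faithfully on fewer than `p ^ 2` points is elementary abelian. -/
theorem pow_eq_one_and_comm {Ω : Type v} [Fintype Ω] [MulAction G Ω] [FaithfulSMul G Ω]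
    (hp : p.Prime) (hΩ : Fintype.card Ω < p ^ 2) :
    (∀ x ∈ (P : Subgroup G), x ^ p = 1) ∧
      ∀ x ∈ (P : Subgroup G), ∀ y ∈ (P : Subgroup G), x * y = y * x := by
  haveI : Fact p.Prime := ⟨hp⟩
  classical
  -- every orbit of `P` has at most `p` points
  have horb : ∀ a : Ω, Nat.card (orbit (P : Subgroup G) a) = 1 ∨
      Nat.card (orbit (P : Subgroup G) a) = p := by
    intro a
    obtain ⟨n, hn⟩ := P.isPGroup'.card_orbit a
    have hle : p ^ n ≤ Fintype.card Ω := by
      rw [← hn, ← Nat.card_eq_fintype_card]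
      exact Finite.card_subtype_le _
    have : n < 2 := (Nat.pow_lt_pow_iff_right hp.one_lt).1 (lt_of_le_of_lt hle hΩ)
    interval_cases n
    · exact Or.inl (by simpa using hn)
    · exact Or.inr (by simpa using hn)
  -- the stabiliser of a point is normal of index dividing `p`
  have hst : ∀ a : Ω, (stabilizer (P : Subgroup G) a).Normal ∧
      ((stabilizer (P : Subgroup G) a).index = 1 ∨ (stabilizer (P : Subgroup G) a).index = p) := by
    intro a
    have hi : (stabilizer (P : Subgroup G) a).index = 1 ∨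
        (stabilizer (P : Subgroup G) a).index = p := by
      rw [index_stabilizer]; exact horb a
    refine ⟨?_, hi⟩
    rcases hi with h | h
    · rw [Subgroup.index_eq_one.1 h]; infer_instance
    · refine Subgroup.normal_of_index_eq_minFac_card ?_
      obtain ⟨n, hn⟩ := IsPGroup.iff_card.1 P.isPGroup'
      have hd : p ∣ Nat.card (P : Subgroup G) :=
        h.symm.dvd.trans (Subgroup.index_dvd_card _)
      have hn0 : n ≠ 0 := fun e => by
        rw [hn, e, pow_zero, Nat.dvd_one] at hd; exact hp.ne_one hd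
      rw [h, hn, Nat.pow_minFac hn0, Nat.Prime.minFac_eq hp]
  refine ⟨fun x hx => ?_, fun x hx y hy => ?_⟩
  · refine eq_of_smul_eq_smul (α := Ω) fun a => ?_
    obtain ⟨hn, hi⟩ := hst a
    haveI := hn
    have h1 : (⟨x, hx⟩ : (P : Subgroup G)) ^ p ∈ stabilizer (P : Subgroup G) a := by
      rcases hi with h | h
      · rw [Subgroup.index_eq_one.1 h]; exact Subgroup.mem_top _
      · have := Subgroup.pow_index_mem (stabilizer (P : Subgroup G) a) (⟨x, hx⟩ : (P : Subgroup G))
        rwa [h] at this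
    rw [one_smul]
    exact (mem_stabilizer_iff.1 h1 :)
  · have hc : ∀ a : Ω, (x * y * x⁻¹ * y⁻¹) • a = a := by
      intro a
      obtain ⟨hn, hi⟩ := hst a
      haveI := hn
      have hcyc : IsCyclic ((P : Subgroup G) ⧸ stabilizer (P : Subgroup G) a) := by
        rcases hi with h | h
        · haveI : Subsingleton ((P : Subgroup G) ⧸ stabilizer (P : Subgroup G) a) :=
            (Nat.card_eq_one_iff_unique.1 (by rw [← Subgroup.index_eq_card, h])).1
          infer_instance
        · exact isCyclic_of_prime_card (p := p) (by rw [← Subgroup.index_eq_card, h])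
      have hcomm := (hcyc.isMulCommutative).is_comm.comm
        ((⟨x, hx⟩ : (P : Subgroup G)) : (P : Subgroup G) ⧸ stabilizer (P : Subgroup G) a)
        ((⟨y, hy⟩ : (P : Subgroup G)) : (P : Subgroup G) ⧸ stabilizer (P : Subgroup G) a)
      have hm : (⟨x, hx⟩ : (P : Subgroup G)) * ⟨y, hy⟩ * (⟨x, hx⟩)⁻¹ * (⟨y, hy⟩)⁻¹ ∈
          stabilizer (P : Subgroup G) a := by
        rw [← QuotientGroup.eq_one_iff]
        simp only [QuotientGroup.mk_mul, QuotientGroup.mk_inv]
        rw [hcomm]; group
      exact (mem_stabilizer_iff.1 hm :)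
    have h1 : x * y * x⁻¹ * y⁻¹ = 1 := eq_of_smul_eq_smul (α := Ω) fun a => by
      rw [one_smul]; exact hc a
    rw [mul_inv_eq_one, mul_inv_eq_iff_eq_mul] at h1
    exact h1

theorem hyp_of [IsSimpleGroup G] (hG : ¬ IsMulCommutative G) (hp : p.Prime) (hp3 : 3 < p)
    {Ω : Type v} [Fintype Ω] [MulAction G Ω] [FaithfulSMul G Ω] [IsPretransitive G Ω]
    (hΩ : Fintype.card Ω = 3 * p)
    (hN : Nat.card ↥(Subgroup.normalizer ((P : Subgroup G) : Set G)) = 2 * p) : Hyp p P := by
  haveI : Fact p.Prime := ⟨hp⟩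
  have hlt : Fintype.card Ω < p ^ 2 := by rw [hΩ, pow_two]; exact Nat.mul_lt_mul_of_pos_right hp3 hp.pos
  obtain ⟨hexp, hcomm⟩ := pow_eq_one_and_comm (P := P) (Ω := Ω) hp hlt
  have hd : p ∣ Nat.card G := by
    haveI : Nonempty Ω := Fintype.card_pos_iff.1 (by rw [hΩ]; have := hp.pos; omega)
    obtain ⟨a⟩ := (inferInstance : Nonempty Ω)
    refine dvd_trans ?_ (Subgroup.index_dvd_card (stabilizer G a))
    rw [index_stabilizer_of_transitive, Nat.card_eq_fintype_card, hΩ]
    exact dvd_mul_left p 3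
  obtain ⟨n, hn⟩ := IsPGroup.iff_card.1 P.isPGroup'
  have hn1 : n ≠ 0 := fun e => by
    have := P.dvd_card_of_dvd_card hd
    rw [hn, e, pow_zero, Nat.dvd_one] at this
    exact hp.ne_one this
  have hdN : p ^ n ∣ 2 * p := by
    rw [← hn, ← hN]; exact Subgroup.card_dvd_of_le Subgroup.le_normalizer
  have hn2 : n < 2 := by
    by_contra h
    have h2 : p ^ 2 ∣ 2 * p := (pow_dvd_pow p (by omega)).trans hdN
    rw [pow_two] at h2
    have := Nat.le_of_dvd two_pos (Nat.dvd_of_mul_dvd_mul_right hp.pos h2)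
    omega
  have hcard : Nat.card (P : Subgroup G) = p := by
    rw [hn, show n = 1 by omega, pow_one]
  refine ⟨hp, hp3, inferInstance, hG, hcard, ?_, hN⟩
  obtain ⟨e, c, -, he, hpc, hc, hce⟩ := SmallGroups.Sylow.exists_normalizer_factor hG P hcard
  rw [hN] at hce
  obtain ⟨k, rfl⟩ := hpc
  have hke : k * e = 2 := by
    have : p * (k * e) = p * 2 := by rw [← mul_assoc, hce, mul_comm]
    exact Nat.eq_of_mul_eq_mul_left hp.pos this
  have hk : k = 1 := by
    rcases (Nat.dvd_prime Nat.prime_two).1 ⟨e, hke.symm⟩ with h | h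
    · exact h
    · subst h; omega
  subst hk
  have hle : (P : Subgroup G) ≤ Subgroup.centralizer ((P : Subgroup G) : Set G) :=
    fun x hx => Subgroup.mem_centralizer_iff.2 fun y hy => hcomm y hy x hx
  refine (Subgroup.eq_of_le_of_card_ge hle ?_).symm
  rw [hc, hcard, mul_one]

namespace Hyp

variable (h : Hyp p P)
include h

theorem fact : Fact p.Prime := ⟨h.prime⟩

theorem ne_two : p ≠ 2 := by have := h.gt_three; omega

theorem odd : Odd p := h.prime.odd_of_ne_two h.ne_two

theorem dvd_card : p ∣ Nat.card G := by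
  rw [← h.card]; exact Subgroup.card_subgroup_dvd_card _

theorem not_sq_dvd : ¬ p ^ 2 ∣ Nat.card G := by
  haveI := h.fact
  intro hd
  have h1 := P.not_dvd_index
  rw [← Subgroup.card_mul_index (P : Subgroup G), h.card, pow_two] at hd
  exact h1 (Nat.dvd_of_mul_dvd_mul_left h.prime.pos hd)

/-- The index of `N(P)` is congruent to one. -/
theorem index_norm_mod :
    Nat.card G = 2 * p * Nat.card (Sylow p G) ∧ Nat.card (Sylow p G) % p = 1 := by
  haveI := h.fact
  refine ⟨?_, SmallGroups.Sylow.card_sylow_mod⟩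
  rw [← h.norm, SmallGroups.Sylow.card_normalizer_mul P]

theorem not_two_dvd_of_mem {x : G} (hx : x ∈ (P : Subgroup G)) (hx2 : x * x = 1) : x = 1 := by
  haveI := h.fact
  have h1 := FixedSylow.pow_eq_one P h.card hx
  obtain ⟨k, hk⟩ := h.odd
  rwa [hk, pow_succ, pow_mul, pow_two, hx2, one_pow, one_mul] at h1

/-- An involution of `N(P)`. -/
theorem exists_inverting : ∃ u : G, orderOf u = 2 ∧
    u ∈ Subgroup.normalizer ((P : Subgroup G) : Set G) := by
  obtain ⟨u, hu⟩ := exists_prime_orderOf_dvd_card'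
    (G := Subgroup.normalizer ((P : Subgroup G) : Set G)) 2 (by rw [h.norm]; exact dvd_mul_right 2 p)
  exact ⟨u, by rw [Subgroup.orderOf_coe, hu], u.2⟩

theorem inverts {u : G} (hu : u ∈ Subgroup.normalizer ((P : Subgroup G) : Set G))
    (h2 : orderOf u = 2) : ∀ x ∈ (P : Subgroup G), u * x * u⁻¹ = x⁻¹ := by
  haveI := h.fact
  have huu : u * u = 1 := by rw [← pow_two, ← h2, pow_orderOf_eq_one]
  refine (FixedSylow.inverts_or_centralizes P h.card hu huu).resolve_left fun hc => ?_
  rw [h.self] at hc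
  rw [h.not_two_dvd_of_mem hc huu, orderOf_one] at h2
  omega

/-- The involutions of `N(P)` are conjugate. -/
theorem isConj_norm {u v : G} (hu : u ∈ Subgroup.normalizer ((P : Subgroup G) : Set G))
    (hu2 : orderOf u = 2) (hv : v ∈ Subgroup.normalizer ((P : Subgroup G) : Set G))
    (hv2 : orderOf v = 2) : IsConj u v := by
  set N := Subgroup.normalizer ((P : Subgroup G) : Set G) with hN
  haveI : Fact (Nat.Prime 2) := ⟨Nat.prime_two⟩
  have hsyl : ∀ w : N, orderOf (w : G) = 2 → ∃ S : Sylow 2 N, (S : Subgroup N) = Subgroup.zpowers w := by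
    intro w hw
    rw [Subgroup.orderOf_coe] at hw
    refine ⟨Sylow.ofCard (Subgroup.zpowers w) ?_, rfl⟩
    rw [Nat.card_zpowers, hw, h.norm, Nat.factorization_mul two_ne_zero h.prime.ne_zero]
    simp [Nat.prime_two.factorization_self, h.prime.factorization, h.ne_two]
  obtain ⟨S, hS⟩ := hsyl ⟨u, hu⟩ hu2
  obtain ⟨S', hS'⟩ := hsyl ⟨v, hv⟩ hv2
  obtain ⟨g, hg⟩ := MulAction.exists_smul_eq N S S'
  refine isConj_iff.2 ⟨g, ?_⟩
  have hm : g * ⟨u, hu⟩ * g⁻¹ ∈ (S' : Subgroup N) := by
    rw [← hg, Sylow.coe_subgroup_smul, hS]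
    simpa using Subgroup.smul_mem_pointwise_smul (a := MulAut.conj g) _ _
      (Subgroup.mem_zpowers (⟨u, hu⟩ : N))
  rw [hS'] at hm
  have hv2' : orderOf (⟨v, hv⟩ : N) = 2 := by rw [← hv2, Subgroup.orderOf_mk]
  obtain ⟨n, hn⟩ := Subgroup.mem_zpowers_iff.1 hm
  have hcase : (⟨v, hv⟩ : N) ^ n = 1 ∨ (⟨v, hv⟩ : N) ^ n = ⟨v, hv⟩ := by
    rw [← zpow_mod_orderOf, hv2']
    have : n % 2 = 0 ∨ n % 2 = 1 := by omega
    rcases this with e | e <;> simp [e]
  rcases hcase with e | e
  · rw [e] at hn
    have h1 := congrArg Subtype.val hn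
    simp only [Subgroup.coe_one, Subgroup.coe_mul, InvMemClass.coe_inv] at h1
    rw [conj_eq_one_iff.1 h1.symm, orderOf_one] at hu2
    omega
  · rw [e] at hn
    exact (congrArg Subtype.val hn).symm

section action

variable {Ω : Type v} [Fintype Ω] [MulAction G Ω] [IsPretransitive G Ω]

/-- Elements of order `p` fix no point when `p` divides the degree. -/
theorem free (hd : p ∣ Fintype.card Ω) {x : G} (hx : orderOf x = p) (a : Ω) : x • a ≠ a := by
  intro hxa
  apply h.not_sq_dvd
  rw [← Subgroup.card_mul_index (stabilizer G a), index_stabilizer_of_transitive,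
    Nat.card_eq_fintype_card (α := Ω), pow_two]
  refine mul_dvd_mul ?_ hd
  rw [← hx]
  exact Subgroup.orderOf_dvd_natCard _ hxa

theorem free' (hd : p ∣ Fintype.card Ω) {x : G} (hx : p ∣ orderOf x) (a : Ω) : x • a ≠ a := by
  intro hxa
  obtain ⟨k, hk⟩ := hx
  have hk0 : k ≠ 0 := fun e => (orderOf_pos x).ne' (by rw [hk, e, mul_zero])
  have ho : orderOf (x ^ k) = p := by
    rw [orderOf_pow, hk, Nat.gcd_mul_left_left, Nat.mul_div_cancel _ (Nat.pos_of_ne_zero hk0)]
  exact h.free hd ho a ((stabilizer G a).pow_mem hxa k)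

/-- The number of fixed points of an involution of `N(P)` is odd in odd degree and at most the
number of `P`-orbits. -/
theorem fixed_norm {m : ℕ} (hm : Fintype.card Ω = m * p) (hmo : Odd m) {u : G}
    (hu : u ∈ Subgroup.normalizer ((P : Subgroup G) : Set G)) (h2 : orderOf u = 2) :
    Odd (Nat.card {a : Ω // u • a = a}) ∧ Nat.card {a : Ω // u • a = a} ≤ m := by
  haveI := h.fact
  haveI : Fact (Nat.Prime 2) := ⟨Nat.prime_two⟩
  have hd : p ∣ Fintype.card Ω := ⟨m, by rw [hm, mul_comm]⟩
  obtain ⟨x, hx⟩ := exists_prime_orderOf_dvd_card' (G := (P : Subgroup G)) p (by rw [h.card])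
  have hxo : orderOf (x : G) = p := by rw [Subgroup.orderOf_coe, hx]
  refine ⟨?_, ?_⟩
  · have hpg : IsPGroup 2 (Subgroup.zpowers u) :=
      IsPGroup.of_card (n := 1) (by rw [Nat.card_zpowers, h2, pow_one])
    have hmod := hpg.card_modEq_card_fixedPoints Ω
    have e : Nat.card (fixedPoints (Subgroup.zpowers u) Ω) = Nat.card {a : Ω // u • a = a} := by
      refine Nat.card_congr (Equiv.subtypeEquivRight fun a => ?_)
      refine ⟨fun ha => ha ⟨u, Subgroup.mem_zpowers u⟩, fun ha g => ?_⟩
      obtain ⟨g, hg⟩ := g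
      exact (Subgroup.zpowers_le.2 (show u ∈ stabilizer G a from ha) hg :)
    rw [e, Nat.card_eq_fintype_card, hm] at hmod
    rw [Nat.odd_iff]
    rw [Nat.ModEq] at hmod
    rw [← hmod, ← Nat.odd_iff]
    exact hmo.mul h.odd
  · have h1 := SmallOrderTools.card_fixed_inverter_le (α := Ω) h.ne_two u (x : G) hxo
      (h.inverts hu h2 _ x.2)
    have e1 : Nat.card {a : Ω // u • a = a ∧ (x : G) • a ≠ a} = Nat.card {a : Ω // u • a = a} :=
      Nat.card_congr (Equiv.subtypeEquivRight fun a => and_iff_left (h.free hd hxo a))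
    have e2 : Nat.card {a : Ω // (x : G) • a ≠ a} = m * p := by
      rw [← hm, ← Nat.card_eq_fintype_card]
      exact Nat.card_congr (Equiv.subtypeUnivEquiv fun a => h.free hd hxo a)
    rw [e1, e2] at h1
    exact Nat.le_of_mul_le_mul_right h1 h.prime.pos

end action

end Hyp

end Cfsg.Agent.Lib.TriplePrime63
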